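import Mathlib

/-!
# Class number bound: the arithmetic

`q = r ^ f` with `p ∣ q - 1`; `b m` bounds `|C / A|` for a primitive component of dimension `m`.
-/

set_option autoImplicit false

namespace CfsgLib.ClassBound

/-- Iterated halving product. -/
def phi : ℕ → ℕ → ℕ
  | 0, _ => 1
  | k + 1, d => if d ≤ 1 then 1 else d * phi k (d / 2)

theorem phi_pos : ∀ k d, 0 < phi k d
  | 0, _ => Nat.one_pos
  | k + 1, d => by
    simp only [phi]
    split_ifs with h
    · exact Nat.one_pos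
    · exact Nat.mul_pos (by omega) (phi_pos k _)

theorem phi_mono : ∀ k d d', d ≤ d' → phi k d ≤ phi k d'
  | 0, _, _, _ => le_rfl
  | k + 1, d, d', h => by
    simp only [phi]
    split_ifs with h1 h2 h2
    · exact le_rfl
    · exact Nat.mul_pos (by omega) (phi_pos k _)
    · omega
    · exact Nat.mul_le_mul h (phi_mono k _ _ (Nat.div_le_div_right h))

theorem phi_le_succ : ∀ k d, phi k d ≤ phi (k + 1) d
  | 0, d => phi_pos _ d
  | k + 1, d => by
    conv_lhs => rw [phi]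
    conv_rhs => rw [phi]
    split_ifs with h
    · exact le_rfl
    · exact Nat.mul_le_mul_left _ (phi_le_succ k _)

theorem phi_le_pow : ∀ k d, 1 ≤ d → phi k d ≤ d ^ k
  | 0, _, _ => by simp [phi]
  | k + 1, d, hd => by
    simp only [phi]
    split_ifs with h
    · exact Nat.one_le_pow _ _ hd
    · rw [pow_succ']
      exact Nat.mul_le_mul_left _ ((phi_le_pow k (d / 2) (by omega)).trans
        (Nat.pow_le_pow_left (Nat.div_le_self _ _) _))

/-- The bound on `|C / A|` in dimension `m`. -/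
def b (m : ℕ) : ℕ := m ^ 2 * phi (2 * Nat.clog 2 m + 1) (m ^ 2)

theorem b_one : b 1 = 1 := by decide +kernel

theorem b_two : b 2 = 32 := by decide +kernel

theorem b_pos {m : ℕ} (hm : 1 ≤ m) : 0 < b m := Nat.mul_pos (Nat.pow_pos (by omega)) (phi_pos _ _)

theorem pow_bound : ∀ c : ℕ, 7 ≤ c → 4 * c ^ 2 + 4 * c ≤ 5 * 2 ^ (c - 1) := by
  intro c hc
  induction c, hc using Nat.le_induction with
  | base => norm_num
  | succ c hc ih =>
    have h1 : 2 ^ (c + 1 - 1) = 2 * 2 ^ (c - 1) := by rw [← pow_succ']; congr 1; omega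
    have h2 : 8 * c + 8 ≤ 5 * 2 ^ (c - 1) := by
      have : 7 ≤ c := hc
      nlinarith
    rw [h1]
    nlinarith

theorem b_le {m : ℕ} (hm : 3 ≤ m) : b m ≤ 1900 * 54 ^ (m - 3) := by
  by_cases hs : m ≤ 40
  · have h : ∀ m ≤ 40, 3 ≤ m → b m ≤ 1900 * 54 ^ (m - 3) := by decide +kernel
    exact h m hs hm
  set c := Nat.clog 2 m with hc
  have hc6 : 6 ≤ c := by
    have : Nat.clog 2 33 ≤ Nat.clog 2 m := Nat.clog_mono_right 2 (by omega)
    have h33 : Nat.clog 2 33 = 6 := by decide +kernel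
    omega
  have hm2 : m ≤ 2 ^ c := Nat.le_pow_clog (by norm_num) m
  have hlow : 2 ^ (c - 1) < m := Nat.pow_pred_clog_lt_self (by norm_num) (by omega)
  have h1 : b m ≤ (2 ^ c) ^ (2 * (2 * c + 2)) := by
    rw [pow_mul, show (2 * c + 2) = (2 * c + 1) + 1 from rfl, pow_succ' ((2 ^ c) ^ 2), b]
    exact Nat.mul_le_mul (Nat.pow_le_pow_left hm2 2)
      ((phi_le_pow _ _ (Nat.one_le_pow _ _ (by omega))).trans
        (Nat.pow_le_pow_left (Nat.pow_le_pow_left hm2 2) _))
  refine h1.trans ?_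
  rw [← pow_mul]
  calc 2 ^ (c * (2 * (2 * c + 2))) ≤ 2 ^ (10 + 5 * (m - 3)) := by
        refine Nat.pow_le_pow_right (by norm_num) ?_
        have e : c * (2 * (2 * c + 2)) = 4 * c ^ 2 + 4 * c := by ring
        rcases eq_or_lt_of_le hc6 with h6 | h7
        · rw [← h6]; omega
        · have := pow_bound c h7
          omega
    _ = 1024 * 32 ^ (m - 3) := by rw [pow_add, pow_mul]; norm_num
    _ ≤ 1900 * 54 ^ (m - 3) := Nat.mul_le_mul (by norm_num) (Nat.pow_le_pow_left (by norm_num) _)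

theorem sq_le_two_pow : ∀ g : ℕ, 10 ≤ g → 4 * g ^ 2 ≤ 2 ^ g := by
  intro g hg
  induction g, hg using Nat.le_induction with
  | base => norm_num
  | succ g hg ih =>
    rw [pow_succ 2]
    nlinarith

theorem two_sq_le_two_pow : ∀ g : ℕ, 8 ≤ g → 2 * g ^ 2 ≤ 2 ^ g ∧ 18 * g ≤ 2 ^ g := by
  intro g hg
  induction g, hg using Nat.le_induction with
  | base => norm_num
  | succ g hg ih =>
    obtain ⟨h1, h2⟩ := ih
    rw [pow_succ 2]
    constructor <;> nlinarith

/-- No proper power below `128` is one more than a multiple of a prime `≥ 53`. -/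
def okPow (r f p : ℕ) : Bool :=
  decide (128 ≤ r ^ f) || decide (r ^ f ≤ 1) || decide ((r ^ f - 1) % p ≠ 0) || decide (¬ p.Prime)

theorem small_powers_aux : ((List.range 12).all fun r => (List.range 5).all fun f =>
    (List.range 75).all fun p => okPow r (f + 2) (p + 53)) = true := by decide +kernel

theorem small_powers (r f p : ℕ) (hr : r < 12) (hf : f < 7) (hf2 : 2 ≤ f) (hq : r ^ f < 128)
    (hp : p < 128) (hp53 : 53 ≤ p) (hd : p ∣ r ^ f - 1) : ¬ p.Prime ∨ r ^ f ≤ 1 := by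
  have h := small_powers_aux
  simp only [List.all_eq_true, List.mem_range] at h
  have h' := h r hr (f - 2) (by omega) (p - 53) (by omega)
  rw [show f - 2 + 2 = f by omega, show p - 53 + 53 = p by omega] at h'
  simp only [okPow, Bool.or_eq_true, decide_eq_true_eq] at h'
  rcases h' with ((h' | h') | h') | h'
  · omega
  · exact Or.inr h'
  · exact absurd (Nat.mod_eq_zero_of_dvd hd) h'
  · exact Or.inl h'

/-- The standing hypotheses on `p`, the field and `f`. -/
structure Field' (p r f q : ℕ) : Prop where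
  pp : p.Prime
  p53 : 53 ≤ p
  rp : r.Prime
  fpos : 1 ≤ f
  hq : q = r ^ f
  dvd : p ∣ q - 1

namespace Field'

variable {p r f q : ℕ} (F : Field' p r f q)
include F

theorem q_gt : p < q := by
  have h1 : 1 < q := by rw [F.hq]; exact Nat.one_lt_pow (by have := F.fpos; omega) F.rp.one_lt
  have := Nat.le_of_dvd (by omega) F.dvd
  omega

theorem two_pow_le : 2 ^ f ≤ q := by rw [F.hq]; exact Nat.pow_le_pow_left F.rp.two_le f

theorem f_small (hq : q < 128) : f = 1 := by
  by_contra hf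
  have hf2 : 2 ≤ f := by have := F.fpos; omega
  have hf7 : f < 7 := by
    by_contra h
    have h7 : 2 ^ 7 ≤ 2 ^ f := Nat.pow_le_pow_right (by norm_num) (by omega)
    have := F.two_pow_le
    norm_num at h7
    omega
  have hr : r < 12 := by
    by_contra h
    have h7 : 12 ^ 2 ≤ r ^ f := (Nat.pow_le_pow_left (by omega) 2).trans
      (Nat.pow_le_pow_right F.rp.pos hf2)
    rw [← F.hq] at h7
    norm_num at h7
    omega
  have hq1 := F.q_gt
  have := F.p53
  rcases small_powers r f p hr hf7 hf2 (F.hq ▸ hq) (by omega) F.p53 (F.hq ▸ F.dvd) with h | h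
  · exact h F.pp
  · have := F.hq; omega

theorem q_ge : 2 * f ^ 2 ≤ q ∧ 18 * f ≤ q := by
  have h2 := F.two_pow_le
  have hq1 := F.q_gt
  have := F.p53
  by_cases hf : 8 ≤ f
  · exact ⟨(two_sq_le_two_pow f hf).1.trans h2, (two_sq_le_two_pow f hf).2.trans h2⟩
  by_cases hq : q < 128
  · rw [F.f_small hq]; omega
  · constructor <;> nlinarith

theorem log_ge : 5 ≤ Nat.log 2 p := by
  have h : Nat.log 2 32 ≤ Nat.log 2 p := Nat.log_mono_right (by have := F.p53; omega)
  have h32 : Nat.log 2 32 = 5 := by decide +kernel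
  omega

theorem fp_le : f * p ≤ 2 * Nat.log 2 p * q := by
  set l := Nat.log 2 p with hl
  have hp : p < 2 ^ (l + 1) := Nat.lt_pow_succ_log_self (by norm_num) p
  have h5 := F.log_ge
  by_cases hf : f ≤ 2 * l
  · exact Nat.mul_le_mul hf F.q_gt.le
  set g := f - l - 1 with hg
  have hfg : f = g + (l + 1) := by omega
  have hg5 : 5 ≤ g := by omega
  have h2g : ∀ g, 5 ≤ g → 2 * g + 1 ≤ 2 ^ g := by
    intro g hg
    induction g, hg using Nat.le_induction with
    | base => norm_num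
    | succ g hg ih => rw [pow_succ 2]; omega
  have := h2g g hg5
  calc f * p ≤ f * 2 ^ (l + 1) := Nat.mul_le_mul_left _ hp.le
    _ ≤ 2 ^ g * 2 ^ (l + 1) := Nat.mul_le_mul_right _ (by omega)
    _ = 2 ^ f := by rw [← pow_add, ← hfg]
    _ ≤ q := F.two_pow_le
    _ ≤ 2 * l * q := Nat.le_mul_of_pos_left _ (by omega)

end Field'

/-- If `p ^ 3 < 2 ^ n` then `n` and `n ^ 2` are small against `2 ^ n / p ^ 3`. -/
theorem exp_bound {p n : ℕ} (hl : 5 ≤ Nat.log 2 p) (h : p ^ 3 < 2 ^ n) :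
    n * p ^ 3 ≤ 8 * Nat.log 2 p * 2 ^ n ∧ n ^ 2 * p ^ 3 ≤ 64 * Nat.log 2 p ^ 2 * 2 ^ n := by
  set l := Nat.log 2 p with hl'
  have hp : p < 2 ^ (l + 1) := Nat.lt_pow_succ_log_self (by norm_num) p
  by_cases hn : n ≤ 8 * l
  · refine ⟨Nat.mul_le_mul hn h.le, Nat.mul_le_mul ?_ h.le⟩
    calc n ^ 2 ≤ (8 * l) ^ 2 := Nat.pow_le_pow_left hn 2
      _ = 64 * l ^ 2 := by ring
  set g := n - (3 * l + 3) with hg
  have hng : n = g + (3 * l + 3) := by omega
  have h2 : n ^ 2 ≤ 2 ^ g := le_trans (by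
    calc n ^ 2 ≤ (2 * g) ^ 2 := Nat.pow_le_pow_left (by omega) 2
      _ = 4 * g ^ 2 := by ring) (sq_le_two_pow g (by omega))
  have h1 : n ≤ 2 ^ g := le_trans (Nat.le_self_pow (by norm_num) n) h2
  have hp3 : p ^ 3 ≤ 2 ^ (3 * l + 3) := by
    rw [show 3 * l + 3 = (l + 1) * 3 by ring, pow_mul]
    exact Nat.pow_le_pow_left hp.le 3
  have e : 2 ^ g * 2 ^ (3 * l + 3) = 2 ^ n := by rw [← pow_add, ← hng]
  refine ⟨?_, ?_⟩
  · calc n * p ^ 3 ≤ 2 ^ n := e ▸ Nat.mul_le_mul h1 hp3
      _ ≤ 8 * l * 2 ^ n := Nat.le_mul_of_pos_left _ (by omega)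
  · calc n ^ 2 * p ^ 3 ≤ 2 ^ n := e ▸ Nat.mul_le_mul h2 hp3
      _ ≤ 64 * l ^ 2 * 2 ^ n := Nat.le_mul_of_pos_left _ (by positivity)

/-- `G(t)`. -/
def Good (p f q m t : ℕ) : Prop :=
  p ^ 3 * ((f * b m) ^ t * 27 ^ (t - 1)) ≤ 175 * Nat.log 2 p ^ 3 * q ^ (m * t)

theorem Good.succ {p f q m t : ℕ} (h : Good p f q m t) (ht : 1 ≤ t) (hu : 27 * (f * b m) ≤ q ^ m) :
    Good p f q m (t + 1) := by
  unfold Good at *
  rw [show t + 1 - 1 = (t - 1) + 1 by omega, pow_succ (f * b m), pow_succ 27, mul_add m, mul_one, pow_add q]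
  calc p ^ 3 * ((f * b m) ^ t * (f * b m) * (27 ^ (t - 1) * 27))
      = p ^ 3 * ((f * b m) ^ t * 27 ^ (t - 1)) * (27 * (f * b m)) := by ring
    _ ≤ 175 * Nat.log 2 p ^ 3 * q ^ (m * t) * q ^ m := Nat.mul_le_mul h hu
    _ = _ := by ring

theorem Good.of_le {p f q m s : ℕ} (h : Good p f q m s) (hs : 1 ≤ s) (hu : 27 * (f * b m) ≤ q ^ m) :
    ∀ t, s ≤ t → Good p f q m t := by
  intro t ht
  induction t, ht using Nat.le_induction with
  | base => exact h
  | succ t ht ih => exact ih.succ (hs.trans ht) hu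

theorem good_of_three_le {p r f q m t : ℕ} (F : Field' p r f q) (hm : 3 ≤ m) (ht : 1 ≤ t) :
    Good p f q m t := by
  obtain ⟨k, rfl⟩ : ∃ k, m = k + 3 := ⟨m - 3, by omega⟩
  have hb := b_le hm
  rw [Nat.add_sub_cancel] at hb
  have h5 := F.log_ge
  have hq := F.q_gt
  have h53 := F.p53
  obtain ⟨-, h18⟩ := F.q_ge
  have hk : 54 ^ k ≤ q ^ k := Nat.pow_le_pow_left (by omega) k
  have hb' : b (k + 3) ≤ 1900 * q ^ k := hb.trans (Nat.mul_le_mul_left _ hk)
  have hu : 27 * (f * b (k + 3)) ≤ q ^ (k + 3) := by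
    calc 27 * (f * b (k + 3)) ≤ 27 * (f * (1900 * q ^ k)) := by gcongr
      _ ≤ 18 * f * (54 * 54) * q ^ k := by nlinarith
      _ ≤ q * (q * q) * q ^ k := by gcongr <;> omega
      _ = q ^ (k + 3) := by ring
  refine Good.of_le ?_ le_rfl hu t ht
  unfold Good
  rw [pow_one, Nat.sub_self, pow_zero, mul_one, mul_one]
  set l := Nat.log 2 p
  calc p ^ 3 * (f * b (k + 3)) = p ^ 2 * (f * p) * b (k + 3) := by ring
    _ ≤ q ^ 2 * (2 * l * q) * (1900 * q ^ k) :=
        Nat.mul_le_mul (Nat.mul_le_mul (Nat.pow_le_pow_left hq.le 2) F.fp_le) hb'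
    _ = 3800 * l * q ^ (k + 3) := by ring
    _ ≤ 175 * l ^ 3 * q ^ (k + 3) := Nat.mul_le_mul_right _ (by nlinarith [Nat.pow_le_pow_left h5 2])

theorem good_two {p r f q t : ℕ} (F : Field' p r f q) (ht : 1 ≤ t)
    (hn : p ^ 3 < 2 ^ (t * (2 * f))) : Good p f q 2 t := by
  have h5 := F.log_ge
  have hq := F.q_gt
  have h53 := F.p53
  obtain ⟨h2f, h18⟩ := F.q_ge
  set l := Nat.log 2 p
  rcases eq_or_lt_of_le ht with rfl | ht2
  · unfold Good
    rw [pow_one, Nat.sub_self, pow_zero, mul_one, mul_one, b_two]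
    rw [one_mul] at hn
    have h := (exp_bound h5 hn).1
    calc p ^ 3 * (f * 32) = 16 * (2 * f * p ^ 3) := by ring
      _ ≤ 16 * (8 * l * 2 ^ (2 * f)) := Nat.mul_le_mul_left _ h
      _ ≤ 16 * (8 * l * q ^ 2) := Nat.mul_le_mul_left _ (Nat.mul_le_mul_left _ (by
          rw [mul_comm 2 f, pow_mul]
          exact Nat.pow_le_pow_left F.two_pow_le 2))
      _ = 128 * l * q ^ 2 := by ring
      _ ≤ 175 * l ^ 3 * q ^ 2 := Nat.mul_le_mul_right _ (by nlinarith [Nat.pow_le_pow_left h5 2])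
  refine Good.of_le ?_ (by norm_num) ?_ t ht2
  · unfold Good
    rw [b_two]
    calc p ^ 3 * ((f * 32) ^ 2 * 27 ^ (2 - 1)) = 13824 * p ^ 3 * (2 * f ^ 2) := by ring
      _ ≤ 13824 * q ^ 3 * q := by gcongr
      _ = 13824 * q ^ (2 * 2) := by ring
      _ ≤ 175 * l ^ 3 * q ^ (2 * 2) := Nat.mul_le_mul_right _ (by nlinarith [Nat.pow_le_pow_left h5 3])
  · rw [b_two]
    calc 27 * (f * 32) = 18 * f * 48 := by ring
      _ ≤ q * q := Nat.mul_le_mul h18 (by omega)
      _ = q ^ 2 := by ring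

theorem good_one {p r f q t : ℕ} (F : Field' p r f q) (ht : 1 ≤ t) (hn : p ^ 3 < 2 ^ (t * f))
    (hM : q = p + 1 → 3 ≤ t → 4 ≤ t ∧ 12 ≤ f) : Good p f q 1 t := by
  have h5 := F.log_ge
  have hq := F.q_gt
  have h53 := F.p53
  have h2 := F.two_pow_le
  set l := Nat.log 2 p with hl
  have hp : p < 2 ^ (l + 1) := Nat.lt_pow_succ_log_self (by norm_num) p
  rcases eq_or_lt_of_le ht with rfl | ht2
  · unfold Good
    rw [pow_one, Nat.sub_self, pow_zero, mul_one, mul_one, b_one, mul_one, pow_one, mul_comm]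
    rw [one_mul] at hn
    calc f * p ^ 3 ≤ 8 * l * 2 ^ f := (exp_bound h5 hn).1
      _ ≤ 8 * l * q := Nat.mul_le_mul_left _ h2
      _ ≤ 175 * l ^ 3 * q := Nat.mul_le_mul_right _ (by nlinarith [Nat.pow_le_pow_left h5 2])
  rcases eq_or_lt_of_le (Nat.succ_le_of_lt ht2) with h | ht3
  · obtain rfl : t = 2 := h.symm
    unfold Good
    rw [b_one, mul_one, one_mul]
    have hx := (exp_bound h5 hn).2
    have hy : 2 ^ (2 * f) ≤ q ^ 2 := by rw [mul_comm, pow_mul]; exact Nat.pow_le_pow_left h2 2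
    refine (Nat.mul_le_mul_left_iff (Nat.succ_pos 3)).1 ?_
    calc 4 * (p ^ 3 * (f ^ 2 * 27 ^ (2 - 1))) = 27 * ((2 * f) ^ 2 * p ^ 3) := by ring
      _ ≤ 27 * (64 * l ^ 2 * q ^ 2) := Nat.mul_le_mul_left _ (hx.trans (Nat.mul_le_mul_left _ hy))
      _ = 1728 * l ^ 2 * q ^ 2 := by ring
      _ ≤ 700 * l ^ 3 * q ^ 2 := Nat.mul_le_mul_right _ (by nlinarith)
      _ = 4 * (175 * l ^ 3 * q ^ 2) := by ring
  have ht3' : 3 ≤ t := ht3
  obtain ⟨k, hk⟩ := F.dvd
  have hqk : q = p * k + 1 := by omega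
  have hk0 : k ≠ 0 := by rintro rfl; omega
  have hu : 27 * (f * b 1) ≤ q ^ 1 → Good p f q 1 t := fun hu => by
    rcases eq_or_ne k 1 with rfl | hk1
    · obtain ⟨ht4, hf12⟩ := hM (by omega) ht3'
      refine Good.of_le ?_ (by norm_num) hu t ht4
      unfold Good
      rw [b_one, mul_one, one_mul]
      have hfl : f = l + 1 := by
        have hlo : 2 ^ l ≤ p := Nat.pow_log_le_self 2 (by omega)
        have hr : r = 2 := by
          by_contra hr
          have hqo : Odd q := F.hq ▸ (F.rp.odd_of_ne_two hr).pow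
          have hpo : Odd p := F.pp.odd_of_ne_two (by omega)
          rw [hqk, mul_one] at hqo
          exact Nat.not_even_iff_odd.2 hqo hpo.add_one
        have hqf : p + 1 = 2 ^ f := by rw [← hr, ← F.hq, hqk, mul_one]
        have ha : l < f := (Nat.pow_lt_pow_iff_right (a := 2) (by norm_num)).1 (by omega)
        have hb : f ≤ l + 1 := (Nat.pow_le_pow_iff_right (a := 2) (by norm_num)).1 (by omega)
        omega
      have hs : ∀ g, 12 ≤ g → 20000 * g ^ 4 ≤ 175 * (g - 1) ^ 3 * 2 ^ g := by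
        intro g hg
        induction g, hg using Nat.le_induction with
        | base => norm_num
        | succ g hg ih =>
          obtain ⟨j, rfl⟩ : ∃ j, g = j + 1 := ⟨g - 1, by omega⟩
          simp only [Nat.add_sub_cancel] at ih ⊢
          have hj : 2 * j ^ 3 ≤ 2 * (j + 1) ^ 3 := by gcongr; omega
          have e1 : (j + 2) ^ 4 ≤ 2 * (j + 1) ^ 4 := by
            have : 11 ≤ j := by omega
            nlinarith [Nat.mul_le_mul (Nat.mul_le_mul this this) (Nat.mul_le_mul this this),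
              Nat.zero_le (j ^ 3), Nat.zero_le (j ^ 2)]
          calc 20000 * (j + 1 + 1) ^ 4 ≤ 2 * (20000 * (j + 1) ^ 4) := by linarith [e1]
            _ ≤ 2 * (175 * j ^ 3 * 2 ^ (j + 1)) := Nat.mul_le_mul_left _ ih
            _ ≤ 175 * (j + 1) ^ 3 * 2 ^ (j + 1 + 1) := by
                rw [pow_succ 2 (j + 1)]
                calc 2 * (175 * j ^ 3 * 2 ^ (j + 1)) = 175 * j ^ 3 * (2 ^ (j + 1) * 2) := by ring
                  _ ≤ _ := by gcongr; omega
      calc p ^ 3 * (f ^ 4 * 27 ^ (4 - 1)) ≤ q ^ 3 * (20000 * f ^ 4) := by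
            calc p ^ 3 * (f ^ 4 * 27 ^ (4 - 1)) = p ^ 3 * (19683 * f ^ 4) := by
                  rw [show (4 : ℕ) - 1 = 3 from rfl]; ring
              _ ≤ _ := Nat.mul_le_mul (Nat.pow_le_pow_left hq.le 3) (Nat.mul_le_mul_right _ (by norm_num))
        _ ≤ q ^ 3 * (175 * (f - 1) ^ 3 * 2 ^ f) := Nat.mul_le_mul_left _ (hs f hf12)
        _ ≤ q ^ 3 * (175 * l ^ 3 * q) := by
            rw [show f - 1 = l by omega]
            gcongr
        _ = 175 * l ^ 3 * q ^ 4 := by ring
    refine Good.of_le ?_ (by norm_num) hu t ht3'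
    unfold Good
    rw [b_one, mul_one, one_mul]
    have key : 9 * f ≤ 5 * l * k := by
      rcases eq_or_lt_of_le (show 2 ≤ k by omega) with rfl | hk3
      · have hr3 : 3 ≤ r := by
          rcases F.rp.eq_two_or_odd with rfl | h
          · exfalso
            have : Even q := by
              rw [F.hq]; exact Even.pow_of_ne_zero even_two (by have := F.fpos; omega)
            obtain ⟨a, ha⟩ := this
            omega
          · have := F.rp.two_le; omega
        have h3 : 2 ^ (3 * f) ≤ q ^ 2 := by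
          rw [F.hq, ← pow_mul, mul_comm f 2, pow_mul r 2, pow_mul 2 3]
          refine Nat.pow_le_pow_left ?_ f
          nlinarith
        have h4 : q ^ 2 < 2 ^ (2 * l + 4) := by
          rw [show 2 * l + 4 = (l + 2) * 2 by ring, pow_mul]
          refine Nat.pow_lt_pow_left ?_ (by norm_num)
          rw [hqk, show l + 2 = l + 1 + 1 by ring, pow_succ]
          omega
        have h6 : 3 * f < 2 * l + 4 := (Nat.pow_lt_pow_iff_right (by norm_num)).1 (h3.trans_lt h4)
        omega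
      · have hk2 : ∀ j, 3 ≤ j → j + 1 ≤ 2 ^ (j - 1) := by
          intro j hj
          induction j, hj using Nat.le_induction with
          | base => norm_num
          | succ j hj ih => rw [show j + 1 - 1 = (j - 1) + 1 by omega, pow_succ]; omega
        have h3 : q < 2 ^ (k - 1 + (l + 1)) := by
          rw [hqk, pow_add]
          calc p * k + 1 ≤ (k + 1) * p := by ring_nf; omega
            _ < (k + 1) * 2 ^ (l + 1) := (Nat.mul_lt_mul_left (by omega)).2 hp
            _ ≤ _ := Nat.mul_le_mul_right _ (hk2 k hk3)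
        have h6 : f < k - 1 + (l + 1) := (Nat.pow_lt_pow_iff_right (by norm_num)).1 (h2.trans_lt h3)
        obtain ⟨j, rfl⟩ : ∃ j, k = j + 3 := ⟨k - 3, by omega⟩
        have hlj : 25 * j ≤ 5 * l * j := Nat.mul_le_mul_right j (by omega)
        rw [mul_add (5 * l)]
        omega
    have key2 : 9 * (p * f) ≤ 5 * l * q := by
      rw [hqk]
      calc 9 * (p * f) = p * (9 * f) := by ring
        _ ≤ p * (5 * l * k) := Nat.mul_le_mul_left _ key
        _ ≤ 5 * l * (p * k + 1) := by ring_nf; omega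
    calc p ^ 3 * (f ^ 3 * 27 ^ (3 - 1)) = (9 * (p * f)) ^ 3 := by ring
      _ ≤ (5 * l * q) ^ 3 := Nat.pow_le_pow_left key2 3
      _ = 125 * l ^ 3 * q ^ 3 := by ring
      _ ≤ 175 * l ^ 3 * q ^ 3 := by gcongr; norm_num
  refine hu ?_
  rw [b_one, mul_one, pow_one]
  by_cases hf1 : f = 1
  · omega
  have hq128 : 128 ≤ q := by by_contra h; exact hf1 (F.f_small (by omega))
  by_cases hf : 8 ≤ f
  · refine le_trans ?_ h2
    clear * - hf
    induction f, hf using Nat.le_induction with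
    | base => norm_num
    | succ g hg ih => rw [pow_succ 2]; omega
  rcases Nat.lt_or_ge f 5 with h | h
  · omega
  rcases eq_or_ne k 1 with rfl | hk1
  · have := (hM (by omega) ht3').2
    omega
  rcases F.rp.eq_two_or_odd with hr | hr
  · exfalso
    have hq' : q = 2 ^ f := hr ▸ F.hq
    have : f = 7 := by
      by_contra h7
      have : q ≤ 2 ^ 6 := hq' ▸ Nat.pow_le_pow_right (by norm_num) (by omega)
      omega
    rw [this] at hq'
    have hk2' : k ≤ 2 := by nlinarith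
    interval_cases k <;> omega
  · have : 3 ^ f ≤ q := F.hq ▸ Nat.pow_le_pow_left (by have := F.rp.two_le; omega) f
    have : 3 ^ 5 ≤ 3 ^ f := Nat.pow_le_pow_right (by norm_num) h
    omega

end CfsgLib.ClassBound
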