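import Cfsg.Agent.Lib.FgsC.ClassBound.Defs

/-!
# Lower bounds on the number of classes
-/

set_option autoImplicit false

universe u

namespace CfsgLib.ClassBound

open MulAction CfsgLib.BaseTwo Polynomial
open scoped commutatorElement

variable {X : Type u} [Group X] [Finite X]

/-- A central normal subgroup of a subgroup of index `i` meets at least `|A| / i` classes. -/
theorem card_le_classes {A C : Subgroup X} [hA : A.Normal] (hAC : ∀ a ∈ A, ∀ c ∈ C, a * c = c * a) :
    Nat.card A ≤ Nat.card (ConjClasses X) * C.index := by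
  classical
  have hrep : ∀ a : A, ∃ g : X, g * (ConjClasses.mk (a : X)).out * g⁻¹ = a := fun a =>
    isConj_iff.1 (ConjClasses.mk_eq_mk_iff_isConj.1 (Quotient.out_eq _))
  choose g hg using hrep
  have hout : ∀ a : A, (ConjClasses.mk (a : X)).out ∈ A := fun a => by
    have := hA.conj_mem _ a.2 (g a)⁻¹
    rwa [← hg a, inv_inv, show (g a)⁻¹ * (g a * (ConjClasses.mk (a : X)).out * (g a)⁻¹) * g a =
      (ConjClasses.mk (a : X)).out by group] at this
  let Φ : A → ConjClasses X × (X ⧸ C) := fun a => (ConjClasses.mk (a : X), (g a : X ⧸ C))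
  have hΦ : Function.Injective Φ := by
    intro a b h
    obtain ⟨h1, h2⟩ := Prod.ext_iff.1 h
    have hc := QuotientGroup.eq.1 (h2 : (g a : X ⧸ C) = g b)
    have hcomm := hAC _ (hout a) _ hc
    refine Subtype.ext ?_
    rw [← hg a, ← hg b]
    change ConjClasses.mk (a : X) = ConjClasses.mk (b : X) at h1
    rw [← h1]
    set o := (ConjClasses.mk (a : X)).out
    calc g a * o * (g a)⁻¹ = g a * (o * ((g a)⁻¹ * g b)) * (g b)⁻¹ := by group
      _ = g a * (((g a)⁻¹ * g b) * o) * (g b)⁻¹ := by rw [hcomm]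
      _ = g b * o * (g b)⁻¹ := by group
  refine (Nat.card_le_card_of_injective Φ hΦ).trans ?_
  rw [Nat.card_prod, ← Subgroup.index_eq_card]

/-- An abelian normal section meets at least `[B : C] / [X : B]` classes. -/
theorem relIndex_le_classes {B C : Subgroup X} [hB : B.Normal] [C.Normal] (hCB : C ≤ B)
    (h : ∀ x ∈ B, ∀ y ∈ B, ⁅x, y⁆ ∈ C) :
    C.relIndex B ≤ Nat.card (ConjClasses X) * B.index := by
  haveI : (B.map (QuotientGroup.mk' C)).Normal := hB.map _ (QuotientGroup.mk'_surjective C)
  have h1 := card_le_classes (A := B.map (QuotientGroup.mk' C)) (C := B.map (QuotientGroup.mk' C)) (by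
    rintro _ ⟨x, hx, rfl⟩ _ ⟨y, hy, rfl⟩
    rw [← commutatorElement_eq_one_iff_mul_comm, ← map_commutatorElement]
    exact (QuotientGroup.eq_one_iff _).2 (h x hx y hy))
  have h2 : Nat.card (B.map (QuotientGroup.mk' C)) = C.relIndex B := by
    rw [← Subgroup.relIndex_bot_left,
      ← (Subgroup.map_eq_bot_iff C).2 (show C ≤ (QuotientGroup.mk' C).ker by rw [QuotientGroup.ker_mk']),
      Subgroup.relIndex_map_map, QuotientGroup.ker_mk', sup_idem, sup_eq_left.2 hCB]
  rw [Subgroup.index_map_eq B (QuotientGroup.mk'_surjective C) (by rwa [QuotientGroup.ker_mk'])] at h1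
  rw [h2] at h1
  exact h1.trans (Nat.mul_le_mul_right _
    (Nat.card_le_card_of_surjective _ (ConjClasses.map_surjective (QuotientGroup.mk'_surjective C))))

variable {V : Type u} [AddCommGroup V] [Finite V] [DistribMulAction X V]

theorem card_le_orb : Nat.card V ≤ (orb X V - 1) * Nat.card X + 1 := by
  classical
  let z : orbitRel.Quotient X V := Quotient.mk'' 0
  have hrep : ∀ v : V, ∃ x : X, x • (Quotient.mk'' v : orbitRel.Quotient X V).out = v := fun v =>
    Quotient.eq''.1 (Quotient.out_eq' (Quotient.mk'' v : orbitRel.Quotient X V)).symm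
  choose x hx using hrep
  have hz : ∀ v : V, v ≠ 0 → (Quotient.mk'' v : orbitRel.Quotient X V) ≠ z := fun v hv h => hv (by
    obtain ⟨g, hg⟩ := Quotient.eq''.1 h
    exact hg.symm.trans (smul_zero g))
  let Φ : V → Option ({o : orbitRel.Quotient X V // o ≠ z} × X) := fun v =>
    if h : v = 0 then none else some (⟨_, hz v h⟩, x v)
  have hΦ : Function.Injective Φ := fun v w h => by
    simp only [Φ] at h
    split_ifs at h with h1 h2
    · rw [h1, h2]
    · rw [Option.some_inj, Prod.ext_iff] at h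
      obtain ⟨ho, hxe⟩ := h
      change x v = x w at hxe
      rw [← hx v, ← hx w, show (Quotient.mk'' v : orbitRel.Quotient X V) = Quotient.mk'' w from
        congrArg Subtype.val ho, hxe]
  refine (Nat.card_le_card_of_injective Φ hΦ).trans ?_
  rw [Finite.card_option, Nat.card_prod, orb, ← Nat.card_congr (Equiv.optionSubtypeNe z), Finite.card_option,
    Nat.add_sub_cancel]

/-- An element of prime order is conjugate to at most `n` of its powers. -/
theorem conj_powers_le [FaithfulSMul X V] {p r : ℕ} [Fact r.Prime] [Module (ZMod r) V] (hp : p.Prime)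
    (hrp : r ≠ p) {y : X} (hyp : y ^ p = 1) (hy1 : y ≠ 1) (s : Finset ℕ) (hs : ∀ i ∈ s, i < p)
    (hconj : ∀ i ∈ s, IsConj y (y ^ i)) : s.card ≤ Module.finrank (ZMod r) V := by
  classical
  haveI : Module.Finite (ZMod r) V := Module.Finite.of_finite
  let ρ : X →* Module.End (ZMod r) V :=
    { toFun := fun g => AddMonoidHom.toZModLinearMap r (DistribMulAction.toAddMonoidHom V g)
      map_one' := LinearMap.ext fun v => one_smul X v
      map_mul' := fun g h => LinearMap.ext fun v => mul_smul g h v }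
  have hρ : Function.Injective ρ := fun g h e =>
    FaithfulSMul.eq_of_smul_eq_smul fun v : V => LinearMap.congr_fun e v
  haveI : Nontrivial (Module.End (ZMod r) V) := ⟨⟨ρ y, 1, fun h => hy1 (hρ (h.trans (map_one ρ).symm))⟩⟩
  set μ := minpoly (ZMod r) (ρ y) with hμ
  have hint : IsIntegral (ZMod r) (ρ y) := Algebra.IsIntegral.isIntegral _
  let K := AlgebraicClosure (ZMod r)
  have hdvd : μ ∣ Polynomial.X ^ p - C 1 := minpoly.dvd _ _ (by
    rw [map_sub, map_pow, aeval_X, ← map_pow, hyp, map_one, map_one, map_one, sub_self])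
  have hsep : (Polynomial.X ^ p - C 1 : (ZMod r)[X]).Separable := by
    refine separable_X_pow_sub_C 1 (fun h => hrp ?_) one_ne_zero
    rw [ZMod.natCast_eq_zero_iff] at h
    exact (Nat.prime_dvd_prime_iff_eq (Fact.out : r.Prime) hp).1 h
  have hroot : ∃ α : K, aeval α μ = 0 ∧ α ≠ 1 := by
    by_contra hall
    push Not at hall
    have hμK : (μ.map (algebraMap (ZMod r) K)) ≠ 0 := map_ne_zero (minpoly.ne_zero hint)
    have hroots : ∀ a ∈ (μ.map (algebraMap (ZMod r) K)).roots, a = 1 := fun a ha => by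
      refine hall a ?_
      have := (mem_roots hμK).1 ha
      rwa [IsRoot.def, eval_map, ← aeval_def] at this
    have hdeg : μ.natDegree ≤ 1 := by
      rw [← natDegree_map (algebraMap (ZMod r) K), ← IsAlgClosed.card_roots_eq_natDegree,
        ← Multiset.toFinset_card_of_nodup (nodup_roots ((hsep.of_dvd hdvd).map))]
      refine Finset.card_le_one.2 fun a ha b hb => ?_
      rw [hroots a (Multiset.mem_toFinset.1 ha), hroots b (Multiset.mem_toFinset.1 hb)]
    have hX := (minpoly.monic hint).eq_X_add_C (le_antisymm hdeg (minpoly.natDegree_pos hint))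
    obtain ⟨c, hc⟩ : ∃ c, μ = Polynomial.X + C c := ⟨_, hX⟩
    have h1 : (-(algebraMap (ZMod r) K c)) = 1 := hall _ (by
      rw [hc, map_add, aeval_X, aeval_C, neg_add_cancel])
    have hc1 : c = -1 := by
      refine (algebraMap (ZMod r) K).injective ?_
      rw [map_neg, map_one, ← h1, neg_neg]
    have h0 := minpoly.aeval (ZMod r) (ρ y)
    rw [← hμ, hc, hc1, map_add, aeval_X, aeval_C, map_neg, map_one, add_neg_eq_zero] at h0
    exact hy1 (hρ (h0.trans (map_one ρ).symm))
  obtain ⟨α, hα, hα1⟩ := hroot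
  have hαp : α ^ p = 1 := by
    obtain ⟨w, hw⟩ := hdvd
    have h := congrArg (aeval α) hw
    rw [map_mul, hα, zero_mul, map_sub, map_pow, aeval_X, aeval_C, map_one, sub_eq_zero] at h
    exact h
  have hord : orderOf α = p := by
    haveI : Fact p.Prime := ⟨hp⟩
    exact orderOf_eq_prime hαp hα1
  have hpow : ∀ i ∈ s, aeval (α ^ i) μ = 0 := by
    intro i hi
    obtain ⟨g, hg⟩ := isConj_iff.1 (hconj i hi)
    have hq : ∀ q : (ZMod r)[X], aeval (ρ (g * y * g⁻¹)) q = ρ g * aeval (ρ y) q * ρ g⁻¹ := by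
      intro q
      induction q using Polynomial.induction_on' with
      | add a b ha hb => rw [map_add, map_add, ha, hb, mul_add, add_mul]
      | monomial j a =>
        rw [aeval_monomial, aeval_monomial, ← map_pow, ← map_pow, conj_pow, map_mul, map_mul,
          ← mul_assoc (ρ g), ← Algebra.commutes a (ρ g), mul_assoc (algebraMap (ZMod r) _ a),
          mul_assoc (algebraMap (ZMod r) _ a)]
    have h0 : aeval (ρ y) (μ.comp (Polynomial.X ^ i)) = 0 := by
      rw [aeval_comp, map_pow, aeval_X, ← map_pow, ← hg, hq, hμ, minpoly.aeval, mul_zero, zero_mul]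
    obtain ⟨w, hw⟩ := minpoly.dvd _ _ h0
    have h := congrArg (aeval α) hw
    rw [aeval_comp, map_pow, aeval_X, map_mul, ← hμ, hα, zero_mul] at h
    exact h
  calc s.card ≤ (μ.aroots K).toFinset.card := by
        refine Finset.card_le_card_of_injOn (fun i => α ^ i) (fun i hi => ?_) fun i hi j hj h => ?_
        · exact Multiset.mem_toFinset.2 (mem_aroots.2 ⟨minpoly.ne_zero hint, hpow i hi⟩)
        · rw [← hord] at hs
          exact pow_injOn_Iio_orderOf (hs i hi) (hs j hj) h
    _ ≤ μ.natDegree := (Multiset.toFinset_card_le _).trans ((card_roots' _).trans natDegree_map_le)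
    _ ≤ (ρ y).charpoly.natDegree :=
        natDegree_le_of_dvd (LinearMap.minpoly_dvd_charpoly _) (LinearMap.charpoly_monic _).ne_zero
    _ = _ := LinearMap.charpoly_natDegree _

/-- An element of prime order `p` gives at least `(p - 1) / n` non-trivial classes. -/
theorem sub_one_le_classes [FaithfulSMul X V] {p r : ℕ} [Fact r.Prime] [Module (ZMod r) V] (hp : p.Prime)
    (hrp : r ≠ p) {y : X} (hyp : y ^ p = 1) (hy1 : y ≠ 1) :
    p - 1 ≤ (Nat.card (ConjClasses X) - 1) * Module.finrank (ZMod r) V := by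
  classical
  haveI : Fact p.Prime := ⟨hp⟩
  have hord : orderOf y = p := orderOf_eq_prime hyp hy1
  letI := Fintype.ofFinite (ConjClasses X)
  have hmem : ∀ j ∈ Finset.Ico 1 p, ConjClasses.mk (y ^ j) ∈ Finset.univ.erase (1 : ConjClasses X) := by
    intro j hj
    obtain ⟨h1, h2⟩ := Finset.mem_Ico.1 hj
    refine Finset.mem_erase.2 ⟨fun h => ?_, Finset.mem_univ _⟩
    rw [ConjClasses.one_eq_mk_one, ConjClasses.mk_eq_mk_iff_isConj, isConj_one_left] at h
    have := Nat.le_of_dvd (by omega) (hord ▸ orderOf_dvd_of_pow_eq_one h)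
    omega
  have h := Finset.card_le_mul_card_image_of_maps_to (s := Finset.Ico 1 p)
    (t := Finset.univ.erase (1 : ConjClasses X)) (f := fun j => ConjClasses.mk (y ^ j))
    hmem (Module.finrank (ZMod r) V) ?_
  · rw [Nat.card_Ico, Finset.card_erase_of_mem (Finset.mem_univ _), Finset.card_univ,
      ← Nat.card_eq_fintype_card, mul_comm] at h
    exact h
  intro c _
  set J := (Finset.Ico 1 p).filter (fun j => ConjClasses.mk (y ^ j) = c)
  rcases J.eq_empty_or_nonempty with h0 | ⟨j₀, hj₀⟩
  · rw [h0, Finset.card_empty]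
    exact Nat.zero_le _
  obtain ⟨hj₀I, hj₀c⟩ := Finset.mem_filter.1 hj₀
  obtain ⟨hj1, hj2⟩ := Finset.mem_Ico.1 hj₀I
  have hj0 : (j₀ : ZMod p) ≠ 0 := fun e => by
    rw [ZMod.natCast_eq_zero_iff] at e
    have := Nat.le_of_dvd (by omega) e
    omega
  let σ : ℕ → ℕ := fun j => ((j : ZMod p) * (j₀ : ZMod p)⁻¹).val
  have hσ : ∀ j, (y ^ j₀) ^ σ j = y ^ j := fun j => by
    rw [← pow_mul, pow_eq_pow_iff_modEq, hord, ← ZMod.natCast_eq_natCast_iff, Nat.cast_mul, ZMod.natCast_zmod_val,
      mul_comm (j₀ : ZMod p), mul_assoc, inv_mul_cancel₀ hj0, mul_one]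
  have hJ : J.card = (J.image σ).card := (Finset.card_image_of_injOn fun a ha b hb e => by
    have e' := hσ a
    rw [e, hσ b] at e'
    have ha' := (Finset.mem_Ico.1 (Finset.mem_filter.1 ha).1).2
    have hb' := (Finset.mem_Ico.1 (Finset.mem_filter.1 hb).1).2
    exact pow_injOn_Iio_orderOf (by rw [hord]; exact ha') (by rw [hord]; exact hb') e'.symm).symm
  rw [hJ]
  refine conj_powers_le (y := y ^ j₀) hp hrp (by rw [← pow_mul, mul_comm, pow_mul, hyp, one_pow]) (fun e => ?_) _
    (fun i hi => ?_) (fun i hi => ?_)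
  · have := Nat.le_of_dvd (by omega) (hord ▸ orderOf_dvd_of_pow_eq_one e)
    omega
  · obtain ⟨j, -, rfl⟩ := Finset.mem_image.1 hi
    exact ZMod.val_lt _
  · obtain ⟨j, hj, rfl⟩ := Finset.mem_image.1 hi
    rw [hσ, ← ConjClasses.mk_eq_mk_iff_isConj, hj₀c, (Finset.mem_filter.1 hj).2]

end CfsgLib.ClassBound
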