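import Cfsg.Agent.Lib.FgsC.ClassBound.Defs

/-!
# Components of a module permuted transitively: dimension and orbits
-/

set_option autoImplicit false

universe u

namespace CfsgLib.ClassBound

open MulAction

variable {X : Type u} [Group X] [Finite X] {V : Type u} [AddCommGroup V] [Finite V] [DistribMulAction X V]
  {Ω : Type u} [Fintype Ω] [MulAction X Ω] (F : Ω → V →+ V) (c₀ : Ω) (g : Ω → X)

/-- The hypotheses on the components. -/
structure Comp : Prop where
  id : ∀ c v, F c (F c v) = F c v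
  orth : ∀ c d, c ≠ d → ∀ v, F c (F d v) = 0
  sum : ∀ v, v = ∑ c, F c v
  equiv : ∀ (x : X) c v, x • F c v = F (x • c) (x • v)
  rep : ∀ c, g c • c₀ = c

variable {F c₀ g}

namespace Comp

variable (H : Comp F c₀ g)
include H

theorem mem_eq {v : V} (hv : v ∈ (F c₀).range) : F c₀ v = v := by
  obtain ⟨w, rfl⟩ := hv
  exact H.id c₀ w

theorem stab_smul {n : X} (hn : n • c₀ = c₀) {v : V} (hv : v ∈ (F c₀).range) :
    n • v ∈ (F c₀).range := by
  refine ⟨n • v, ?_⟩
  conv_rhs => rw [← H.mem_eq hv, H.equiv, hn]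

theorem back_mem (c : Ω) (v : V) : (g c)⁻¹ • F c v ∈ (F c₀).range := by
  refine ⟨(g c)⁻¹ • v, ?_⟩
  rw [H.equiv, show (g c)⁻¹ • c = c₀ from inv_smul_eq_iff.2 (H.rep c).symm]

theorem apply_rep_eq {v : V} (hv : v ∈ (F c₀).range) (c : Ω) : F c (g c • v) = g c • v := by
  conv_rhs => rw [← H.mem_eq hv, H.equiv, H.rep]

theorem apply_rep_ne {v : V} (hv : v ∈ (F c₀).range) {c d : Ω} (hcd : c ≠ d) : F c (g d • v) = 0 := by
  rw [← H.apply_rep_eq hv d, H.orth c d hcd]

theorem apply_sum (u : Ω → (F c₀).range) (s : Finset Ω) [DecidableEq Ω] (c : Ω) :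
    F c (∑ d ∈ s, g d • (u d : V)) = if c ∈ s then g c • (u c : V) else 0 := by
  rw [map_sum]
  split_ifs with h
  · rw [Finset.sum_eq_single c (fun d _ hd => H.apply_rep_ne (u d).2 hd.symm) (fun h' => absurd h h'),
      H.apply_rep_eq (u c).2]
  · exact Finset.sum_eq_zero fun d hd => H.apply_rep_ne (u d).2 fun e => h (e ▸ hd)

theorem card_eq : Nat.card V = Nat.card (F c₀).range ^ Nat.card Ω := by
  classical
  rw [← Nat.card_fun]
  refine Nat.card_congr (Equiv.ofBijective (fun v c => (⟨_, H.back_mem c v⟩ : (F c₀).range)) ⟨fun v w h => ?_, fun u => ?_⟩)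
  · rw [H.sum v, H.sum w]
    exact Finset.sum_congr rfl fun c _ => (smul_left_cancel_iff (g c)⁻¹).1 (congrArg Subtype.val (congrFun h c))
  · refine ⟨∑ d ∈ (Finset.univ : Finset Ω), g d • (u d : V), funext fun c => Subtype.ext ?_⟩
    show (g c)⁻¹ • F c _ = (u c : V)
    rw [H.apply_sum u _ c, if_pos (Finset.mem_univ c), inv_smul_smul]

theorem card_lt [Nontrivial Ω] (hne : ∀ c, ∃ v, F c v ≠ 0) : Nat.card (F c₀).range < Nat.card V := by
  classical
  obtain ⟨c, hc⟩ := exists_ne c₀
  obtain ⟨v, hv⟩ := hne c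
  haveI := Fintype.ofFinite V
  rw [Nat.card_eq_fintype_card, Nat.card_eq_fintype_card]
  refine Fintype.card_subtype_lt (x := F c v) fun h => hv ?_
  rw [← H.id c v, ← H.mem_eq h, H.orth c c₀ hc]

/-- Orbit lower bound: `orb - 1` is super-additive in the components. -/
theorem orb_ge (N : Type u) [Group N] [DistribMulAction N (F c₀).range]
    (hN : ∀ x : X, x • c₀ = c₀ → ∀ u : (F c₀).range, ∃ n : N, ((n • u : (F c₀).range) : V) = x • (u : V)) :
    Nat.card Ω * (orb N (F c₀).range - 1) + 1 ≤ orb X V := by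
  classical
  let U := (F c₀).range
  let z : orbitRel.Quotient N U := Quotient.mk'' 0
  let O := {o : orbitRel.Quotient N U // o ≠ z}
  have hO : Nat.card O = orb N U - 1 := by
    unfold orb
    rw [← Nat.card_congr (Equiv.optionSubtypeNe z), Finite.card_option]
    exact (Nat.add_sub_cancel _ 1).symm
  let rep : O → U := fun o => o.1.out
  have hrep0 : ∀ o, rep o ≠ 0 := fun o h => o.2 (by
    have h1 : Quotient.mk'' (rep o) = o.1 := Quotient.out_eq' o.1
    rw [h] at h1
    exact h1.symm)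
  set t := Fintype.card Ω
  let e : Fin t ≃ Ω := (Fintype.equivFin Ω).symm
  let s : Fin t → Finset Ω := fun j => (Finset.Iic j).map e.toEmbedding
  let v : Fin t × O → V := fun jo => ∑ d ∈ s jo.1, g d • (rep jo.2 : V)
  have hv : ∀ jo c, F c (v jo) = if c ∈ s jo.1 then g c • (rep jo.2 : V) else 0 := fun jo c =>
    H.apply_sum (fun _ => rep jo.2) _ c
  have hnz : ∀ jo c, c ∈ s jo.1 → F c (v jo) ≠ 0 := fun jo c hc h => by
    rw [hv, if_pos hc, smul_eq_zero_iff_eq] at h
    exact hrep0 _ (Subtype.ext h)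
  have hmove : ∀ (x : X) jo jo', x • v jo = v jo' → ∀ c ∈ s jo.1, x • c ∈ s jo'.1 := by
    intro x jo jo' h c hc
    by_contra hcon
    refine hnz jo c hc ((smul_eq_zero_iff_eq x).1 ?_)
    rw [H.equiv, h, hv, if_neg hcon]
  let Φ : Option (Fin t × O) → orbitRel.Quotient X V := fun o =>
    Quotient.mk'' (o.elim 0 v)
  have hne : ∀ jo, v jo ≠ 0 := fun jo h => hnz jo (e jo.1) (by simp [s]) (by rw [h, map_zero])
  have hΦ : Function.Injective Φ := by
    intro o o' h
    obtain ⟨x, hx⟩ := Quotient.eq''.1 h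
    change x • o'.elim 0 v = o.elim 0 v at hx
    rcases o with _ | jo <;> rcases o' with _ | jo'
    · rfl
    · exact absurd ((smul_eq_zero_iff_eq x).1 hx) (hne jo')
    · exact absurd (hx.symm.trans (smul_zero x)) (hne jo)
    · simp only [Option.elim] at hx
      have hx' : x⁻¹ • v jo = v jo' := inv_smul_eq_iff.2 hx.symm
      have h1 := Finset.card_le_card_of_injOn (x • ·) (fun c hc => hmove x jo' jo hx c hc)
        fun a _ b _ hab => smul_left_cancel x hab
      have h2 := Finset.card_le_card_of_injOn (x⁻¹ • ·) (fun c hc => hmove x⁻¹ jo jo' hx' c hc)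
        fun a _ b _ hab => smul_left_cancel x⁻¹ hab
      simp only [s, Finset.card_map, Fin.card_Iic] at h1 h2
      have hj : jo.1 = jo'.1 := Fin.ext (by omega)
      set c := e jo'.1 with hc
      have hcm : c ∈ s jo'.1 := by simp [s, hc]
      have hcm' := hmove x jo' jo hx c hcm
      have h3 := H.equiv x c (v jo')
      rw [hx, hv, hv, if_pos hcm, if_pos hcm'] at h3
      have hst : ((g (x • c))⁻¹ * x * g c) • c₀ = c₀ := by
        rw [mul_smul, mul_smul, H.rep, inv_smul_eq_iff, H.rep]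
      obtain ⟨n, hn⟩ := hN _ hst (rep jo'.2)
      rw [mul_smul, mul_smul, h3, inv_smul_smul] at hn
      have ho : jo.2 = jo'.2 := Subtype.ext (by
        rw [← Quotient.out_eq' jo.2.1, ← Quotient.out_eq' jo'.2.1]
        exact Quotient.sound' ⟨n, Subtype.ext hn⟩)
      exact congrArg some (Prod.ext hj ho)
  have hcard := Nat.card_le_card_of_injective Φ hΦ
  rw [Finite.card_option, Nat.card_prod, Nat.card_fin, hO] at hcard
  rw [Nat.card_eq_fintype_card (α := Ω)]
  exact hcard

end Comp

end CfsgLib.ClassBound
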