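import Cfsg.Agent.Lib.FgsC.BaseTwo.Module

/-!
# A section over a given abelian normal subgroup; idempotents of a normalised commutative ring
-/

set_option autoImplicit false

universe u

namespace CfsgLib.ClassBound

open MulAction CfsgLib.BaseTwo
open scoped commutatorElement

theorem exists_sect_ge {G : Type u} [Group G] [Finite G] (hs : Group.IsSolvable G) (P : Subgroup G) [hPn : P.Normal]
    (hPc : ∀ x ∈ P, ∀ y ∈ P, x * y = y * x) : ∃ S : Sect G, P ≤ S.A := by
  classical
  obtain ⟨A, ⟨hAn, hPA, hAc⟩, hAmax⟩ := Set.Finite.exists_maximal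
    (s := {A : Subgroup G | A.Normal ∧ P ≤ A ∧ ∀ x ∈ A, ∀ y ∈ A, x * y = y * x}) (Set.toFinite _)
    ⟨P, hPn, le_rfl, hPc⟩
  haveI := hAn
  have hAC : A ≤ Subgroup.centralizer (A : Set G) := fun x hx =>
    Subgroup.mem_centralizer_iff.2 fun y hy => hAc y hy x hx
  obtain ⟨N, ⟨hNn, hAN, hNC, hNN⟩, hNmax⟩ := Set.Finite.exists_maximal
    (s := {N : Subgroup G | N.Normal ∧ A ≤ N ∧ N ≤ Subgroup.centralizer (A : Set G) ∧ ⁅N, N⁆ ≤ A})
    (Set.toFinite _) ⟨A, hAn, le_rfl, hAC, Subgroup.commutator_le_right A A⟩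
  haveI := hNn
  have hmax : ∀ U : Subgroup G, U.Normal → A ≤ U → (∀ x ∈ U, ∀ y ∈ U, x * y = y * x) → U = A :=
    fun U hU hAU hUc => le_antisymm (hAmax (y := U) ⟨hU, hPA.trans hAU, hUc⟩ hAU) hAU
  refine ⟨⟨A, N, hAn, hNn, hAN, hNC,
    fun x hx y hy => hNN (Subgroup.commutator_mem_commutator hx hy), ?_, hmax⟩, hPA⟩
  set X := Subgroup.centralizer (A : Set G) ⊓ Subgroup.centralizer (N : Set G) with hX
  have hAX : A ≤ X := le_inf hAC (Subgroup.le_centralizer_iff.1 hNC)
  have hNX : N ⊓ X ≤ A := by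
    refine (hmax (N ⊓ X) inferInstance (le_inf hAN hAX) fun x hx y hy => ?_).le
    exact (Subgroup.mem_centralizer_iff.1 (Subgroup.mem_inf.1 (Subgroup.mem_inf.1 hy).2).2 x
      (Subgroup.mem_inf.1 hx).1)
  by_contra hcon
  obtain ⟨n, hn⟩ := (Group.isSolvable_def G).1 hs
  have hex : ∃ k, derivedSeries G k ⊓ X ≤ A := ⟨n, by rw [hn, bot_inf_eq]; exact bot_le⟩
  obtain ⟨k, hk⟩ : ∃ k, Nat.find hex = k + 1 := Nat.exists_eq_succ_of_ne_zero fun h => hcon (by
    have h0 := Nat.find_spec hex
    rw [h, derivedSeries_zero, top_inf_eq] at h0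
    exact h0)
  set Y := derivedSeries G k ⊓ X with hY
  have h1 : ¬ Y ≤ A := Nat.find_min hex (by omega)
  have h2 : ⁅Y, Y⁆ ≤ A := by
    refine le_trans (le_inf ?_ ?_) (hk ▸ Nat.find_spec hex)
    · rw [derivedSeries_succ]
      exact Subgroup.commutator_mono inf_le_left inf_le_left
    · exact (Subgroup.commutator_le_right Y Y).trans inf_le_right
  haveI : Y.Normal := inferInstance
  have hYN : Y ≤ N := by
    refine le_trans le_sup_right (hNmax (y := N ⊔ Y) ⟨Subgroup.sup_normal N Y, le_trans hAN le_sup_left,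
      sup_le hNC (inf_le_right.trans inf_le_left), ?_⟩ le_sup_left)
    have hbot : ∀ P Q : Subgroup G, ⁅P, Q⁆ ≤ A →
        P.map (QuotientGroup.mk' A) ≤ Subgroup.centralizer (Q.map (QuotientGroup.mk' A) : Set (G ⧸ A)) := by
      intro P Q h
      rw [← Subgroup.commutator_eq_bot_iff_le_centralizer, ← Subgroup.map_commutator, Subgroup.map_eq_bot_iff,
        QuotientGroup.ker_mk']
      exact h
    have hNY : ⁅N, Y⁆ ≤ A := by
      rw [(Subgroup.commutator_eq_bot_iff_le_centralizer.2
        (Subgroup.le_centralizer_iff.1 (inf_le_right.trans inf_le_right)) : ⁅N, Y⁆ = ⊥)]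
      exact bot_le
    have hYN : ⁅Y, N⁆ ≤ A := by rwa [Subgroup.commutator_comm]
    rw [← QuotientGroup.ker_mk' A, ← Subgroup.map_eq_bot_iff, Subgroup.map_commutator,
      Subgroup.commutator_eq_bot_iff_le_centralizer, Subgroup.map_sup]
    refine sup_le ?_ ?_ <;> rw [Subgroup.le_centralizer_iff] <;> refine sup_le ?_ ?_
    · exact hbot N N hNN
    · exact hbot Y N hYN
    · exact hbot N Y hNY
    · exact hbot Y Y h2
  exact h1 (le_trans (le_inf hYN inf_le_right) hNX)

variable {A : Type u} [Group A] [Finite A] {V : Type u} [AddCommGroup V] [Finite V] [DistribMulAction A V]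

/-- A commutative subring normalised by an irreducible group is a field, or there is a system of imprimitivity. -/
theorem field_or_decomp (hirr : Irred A V) [Nontrivial V] (R : Subring (AddMonoid.End V))
    (hc : ∀ x ∈ R, ∀ y ∈ R, x * y = y * x) (hn : ∀ a : A, ∀ x ∈ R, cjEnd a x ∈ R) :
    (∀ x ∈ R, x ≠ 0 → ∃ y ∈ R, x * y = 1) ∨
      ∃ (E : Type u) (_ : Fintype E) (_ : Nontrivial E) (_ : MulAction A E) (e : E → AddMonoid.End V),
        Function.Injective e ∧ (∀ i, e i ∈ R) ∧ (∀ (a : A) (i : E), e (a • i) = cjEnd a (e i)) ∧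
        (∀ i v, e i (e i v) = e i v) ∧ (∀ i j, i ≠ j → ∀ v, e i (e j v) = 0) ∧
        (∀ v, v = ∑ i, e i v) ∧ (∀ i, ∃ v, e i v ≠ 0) := by
  classical
  haveI : Finite (AddMonoid.End V) :=
    Finite.of_injective (fun f : AddMonoid.End V => (f : V → V)) DFunLike.coe_injective
  have hidem : ∀ x ∈ R, ∃ m, 0 < m ∧ IsIdempotentElem (x ^ m) := by
    intro x _
    obtain ⟨a, b, hab, heq⟩ := Finite.exists_ne_map_eq_of_infinite (fun n : ℕ => x ^ n)
    wlog hlt : a < b generalizing a b with H
    · exact H b a hab.symm heq.symm (by omega)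
    set k := b - a with hk
    have hper : ∀ c, a ≤ c → x ^ (c + k) = x ^ c := fun c hc' => by
      rw [show c + k = b + (c - a) by omega, pow_add, ← (heq : x ^ a = x ^ b), ← pow_add]
      congr 1; omega
    have hmul : ∀ j c, a ≤ c → x ^ (c + j * k) = x ^ c := fun j => by
      induction j with
      | zero => simp
      | succ j ih => intro c hc'; rw [add_one_mul, ← add_assoc, hper _ (by omega), ih c hc']
    have hma : a + 1 ≤ (a + 1) * k := Nat.le_mul_of_pos_right _ (by omega)
    refine ⟨(a + 1) * k, by omega, ?_⟩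
    show x ^ ((a + 1) * k) * x ^ ((a + 1) * k) = x ^ ((a + 1) * k)
    rw [← pow_add]
    exact hmul (a + 1) _ (by omega)
  have hred : ∀ x ∈ R, IsNilpotent x → x = 0 := by
    intro x hx hxn
    let U : AddSubgroup V :=
      { carrier := {v | ∀ y ∈ R, IsNilpotent y → y v = 0}
        add_mem' := fun {p q} hp hq y hy hy' => by rw [map_add, hp y hy hy', hq y hy hy', add_zero]
        zero_mem' := fun y _ _ => map_zero y
        neg_mem' := fun {p} hp y hy hy' => by rw [map_neg, hp y hy hy', neg_zero] }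
    have hU : ∀ a : A, ∀ v ∈ U, a • v ∈ U := by
      intro a v hv y hy hy'
      have hcn : IsNilpotent (cjEnd a⁻¹ y) := by
        obtain ⟨k, hk⟩ := hy'
        refine ⟨k + 1, ?_⟩
        have hpow : ∀ j, (cjEnd a⁻¹ y) ^ (j + 1) = cjEnd a⁻¹ (y ^ (j + 1)) := by
          intro j
          induction j with
          | zero => simp
          | succ j ih => rw [pow_succ, ih, ← cjEnd_mul, ← pow_succ]
        rw [hpow, pow_succ, hk, zero_mul, cjEnd_zero]
      have h1 := hv (cjEnd a⁻¹ y) (hn _ y hy) hcn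
      rw [cjEnd_apply, inv_inv, inv_smul_eq_iff, smul_zero] at h1
      exact h1
    obtain ⟨v, hv0, hv⟩ : ∃ v : V, v ≠ 0 ∧ v ∈ U := by
      have : ∀ s : Finset (AddMonoid.End V), (∀ y ∈ s, y ∈ R ∧ IsNilpotent y) →
          ∃ v : V, v ≠ 0 ∧ ∀ y ∈ s, y v = 0 := by
        intro s
        induction s using Finset.induction with
        | empty =>
          intro _
          obtain ⟨v, hv⟩ := exists_ne (0 : V)
          exact ⟨v, hv, by simp⟩
        | insert y s hys ih =>
          intro hs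
          obtain ⟨v, hv, hv'⟩ := ih fun z hz => hs z (Finset.mem_insert_of_mem hz)
          obtain ⟨hyR, hyn⟩ := hs y (Finset.mem_insert_self y s)
          obtain ⟨k, hk⟩ := hyn
          have hex : ∃ m, (y ^ m) v = 0 := ⟨k, by rw [hk]; rfl⟩
          obtain ⟨m, hm⟩ : ∃ m, Nat.find hex = m + 1 := Nat.exists_eq_succ_of_ne_zero fun h => hv (by
            have h0 := Nat.find_spec hex
            rw [h, pow_zero] at h0
            exact h0)
          refine ⟨(y ^ m) v, Nat.find_min hex (by omega), fun z hz => ?_⟩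
          rcases Finset.mem_insert.1 hz with rfl | hz'
          · show (z * z ^ m) v = 0
            rw [← pow_succ', ← hm]
            exact Nat.find_spec hex
          · show (z * y ^ m) v = 0
            rw [hc z (hs z hz).1 (y ^ m) (R.pow_mem hyR m)]
            show (y ^ m) (z v) = 0
            rw [hv' z hz', map_zero]
      obtain ⟨v, hv, hv'⟩ := this (Set.toFinite {y | y ∈ R ∧ IsNilpotent y}).toFinset fun y hy => by
        simpa using hy
      exact ⟨v, hv, fun y hy hy' => hv' y (by simpa using And.intro hy hy')⟩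
    rcases hirr U hU with h | h
    · rw [h, AddSubgroup.mem_bot] at hv; exact absurd hv hv0
    · refine DFunLike.ext _ _ fun w => ?_
      exact (h.symm ▸ AddSubgroup.mem_top w : w ∈ U) x hx hxn
  by_cases htriv : ∀ e ∈ R, IsIdempotentElem e → e = 0 ∨ e = 1
  · refine Or.inl fun x hx hx0 => ?_
    obtain ⟨m, hm, hm'⟩ := hidem x hx
    rcases htriv _ (R.pow_mem hx m) hm' with h | h
    · exact absurd (hred x hx ⟨m, h⟩) hx0
    · exact ⟨x ^ (m - 1), R.pow_mem hx _, by rw [← pow_succ', show m - 1 + 1 = m by omega, h]⟩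
  push Not at htriv
  obtain ⟨u, hu, hu', hu0, hu1⟩ := htriv
  refine Or.inr ?_
  let IsP : AddMonoid.End V → Prop := fun e =>
    e ∈ R ∧ IsIdempotentElem e ∧ e ≠ 0 ∧ ∀ f ∈ R, IsIdempotentElem f → f * e = 0 ∨ f * e = e
  have hprim : ∀ z ∈ R, IsIdempotentElem z → z ≠ 0 → ∃ e, IsP e ∧ e * z = e := by
    intro z hz hz' hz0
    let size : AddMonoid.End V → ℕ := fun e => (Set.range (e : V → V)).ncard
    have hex : ∃ n, ∃ e ∈ R, IsIdempotentElem e ∧ e ≠ 0 ∧ e * z = e ∧ size e = n := ⟨_, z, hz, hz', hz0, hz', rfl⟩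
    obtain ⟨e, he, he', he0, hez, hn'⟩ := Nat.find_spec hex
    refine ⟨e, ⟨he, he', he0, fun f hf hf' => ?_⟩, hez⟩
    by_contra hcon
    rw [not_or] at hcon
    have hfe : IsIdempotentElem (f * e) := by
      show f * e * (f * e) = f * e
      rw [mul_assoc, ← mul_assoc e f e, hc e he f hf, mul_assoc f e e, he', ← mul_assoc, hf']
    have hsub : Set.range ((f * e : AddMonoid.End V) : V → V) ⊆ Set.range (e : V → V) := by
      rintro _ ⟨v, rfl⟩
      exact ⟨f v, by rw [hc f hf e he]; rfl⟩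
    have hlt : size (f * e) < Nat.find hex := by
      rw [← hn']
      refine Set.ncard_lt_ncard (hsub.ssubset_of_ne fun heq => hcon.2 ?_) (Set.toFinite _)
      refine DFunLike.ext _ _ fun v => ?_
      obtain ⟨w, hw⟩ : e v ∈ Set.range ((f * e : AddMonoid.End V) : V → V) := heq.symm ▸ ⟨v, rfl⟩
      show f (e v) = e v
      rw [← hw]
      show f (f (e w)) = f (e w)
      exact DFunLike.congr_fun hf' (e w)
    refine Nat.find_min hex hlt ⟨f * e, R.mul_mem hf he, hfe, hcon.1, ?_, rfl⟩
    rw [mul_assoc, hez]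
  let E := {e : AddMonoid.End V // IsP e}
  letI : MulAction A E :=
    { smul := fun a e => ⟨cjEnd a e.1, by
        obtain ⟨h1, h2, h3, h4⟩ := e.2
        refine ⟨hn a _ h1, (cjEnd_mul a e.1 e.1).symm.trans (congrArg (cjEnd a) h2), fun h => h3 ?_, fun f hf hf' => ?_⟩
        · have := congrArg (cjEnd a⁻¹) h
          rwa [cjEnd_cjEnd, inv_mul_cancel, cjEnd_one, cjEnd_zero] at this
        · have hf2 : f = cjEnd a (cjEnd a⁻¹ f) := by rw [cjEnd_cjEnd, mul_inv_cancel, cjEnd_one]
          rcases h4 (cjEnd a⁻¹ f) (hn _ f hf) ((cjEnd_mul a⁻¹ f f).symm.trans (congrArg (cjEnd a⁻¹) hf'))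
            with h | h
          · left; rw [hf2, ← cjEnd_mul, h, cjEnd_zero]
          · right; rw [hf2, ← cjEnd_mul, h]⟩
      one_smul := fun e => Subtype.ext (cjEnd_one e.1)
      mul_smul := fun a b e => Subtype.ext (cjEnd_cjEnd a b e.1).symm }
  have hortho : ∀ e f : E, e ≠ f → e.1 * f.1 = 0 := fun e f hne => by
    obtain ⟨he1, he2, -, he4⟩ := e.2
    obtain ⟨hf1, hf2, -, hf4⟩ := f.2
    rcases hf4 e.1 he1 he2 with h | h
    · exact h
    rcases he4 f.1 hf1 hf2 with h' | h'
    · rw [hc e.1 he1 f.1 hf1]; exact h'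
    · exact absurd (Subtype.ext (by rw [← h', hc f.1 hf1 e.1 he1, h])) hne
  letI := Fintype.ofFinite E
  have hsum : ∑ e : E, e.1 = 1 := by
    by_contra hne
    set s := ∑ e : E, e.1 with hs
    have hsR : s ∈ R := R.sum_mem fun e _ => e.2.1
    have hse : ∀ e : E, e.1 * s = e.1 := fun e => by
      rw [hs, Finset.mul_sum, Finset.sum_eq_single e]
      · exact e.2.2.1
      · exact fun f _ hne' => hortho e f hne'.symm
      · exact fun h => absurd (Finset.mem_univ e) h
    have hss' : IsIdempotentElem s := by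
      show s * s = s
      nth_rw 1 [hs]
      rw [Finset.sum_mul]
      exact Finset.sum_congr rfl fun e _ => hse e
    obtain ⟨e, he, he'⟩ := hprim _ (R.sub_mem R.one_mem hsR) hss'.one_sub (sub_ne_zero.2 (Ne.symm hne))
    rw [mul_sub, mul_one, hse ⟨e, he⟩, sub_self] at he'
    exact he.2.2.1 he'.symm
  haveI : Nontrivial E := by
    by_contra hn'
    rw [not_nontrivial_iff_subsingleton] at hn'
    obtain ⟨e, he, -⟩ := hprim u hu hu' hu0
    have h1 : e = 1 := by
      rw [← hsum, Fintype.sum_subsingleton _ (⟨e, he⟩ : E)]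
    rcases he.2.2.2 u hu hu' with h | h <;> rw [h1, mul_one] at h
    · exact hu0 h
    · exact hu1 h
  refine ⟨E, inferInstance, inferInstance, inferInstance, fun e => e.1, Subtype.val_injective, fun e => e.2.1,
    fun _ _ => rfl, fun e v => DFunLike.congr_fun e.2.2.1 v,
    fun e f hne v => DFunLike.congr_fun (hortho e f hne) v, fun v => ?_, fun e => ?_⟩
  · conv_lhs => rw [show v = (1 : AddMonoid.End V) v from rfl, ← hsum]
    exact AddMonoidHom.finsetSum_apply _ _ _
  · by_contra hall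
    push Not at hall
    exact e.2.2.2.1 (DFunLike.ext _ _ hall)

end CfsgLib.ClassBound
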