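import Cfsg.Agent.Lib.FgsC.BaseTwo.Module
import Cfsg.Agent.Lib.FgsC.ClassBound.Arith

/-!
# Class number bound: the data of a soluble linear group
-/

set_option autoImplicit false

universe u

namespace CfsgLib.ClassBound

open scoped commutatorElement

/-- The number of orbits. -/
noncomputable def orb (X : Type u) [Group X] (V : Type u) [MulAction X V] : ℕ :=
  Nat.card (MulAction.orbitRel.Quotient X V)

/-- Normal subgroups `A ≤ C ≤ B` with the bounds of a system of `t` semilinear components. -/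
def HasData (p : ℕ) (X : Type u) [Group X] (V : Type u) [AddCommGroup V] [DistribMulAction X V] : Prop :=
  ∃ (A C B : Subgroup X) (r f q m t : ℕ), A.Normal ∧ C.Normal ∧ B.Normal ∧ A ≤ C ∧ C ≤ B ∧
    (∀ a ∈ A, ∀ a' ∈ A, a * a' = a' * a) ∧ (∀ a ∈ A, ∀ c ∈ C, a * c = c * a) ∧
    (∀ x ∈ B, ∀ y ∈ B, ⁅x, y⁆ ∈ C) ∧ r.Prime ∧ 1 ≤ f ∧ q = r ^ f ∧ p ∣ q - 1 ∧ 1 ≤ m ∧ 1 ≤ t ∧
    Nat.card V = q ^ (m * t) ∧ B.index ≤ 3 ^ (t - 1) ∧ C.relIndex B ≤ f ^ t ∧
    A.relIndex C ≤ b m ^ t ∧ t + 1 ≤ orb X V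

/-- An abelian normal subgroup of exponent `p` without common fixed vectors. -/
def HasFpf (p : ℕ) (X : Type u) [Group X] (V : Type u) [AddCommGroup V] [DistribMulAction X V] : Prop :=
  ∃ P : Subgroup X, P.Normal ∧ (∀ a ∈ P, ∀ a' ∈ P, a * a' = a' * a) ∧ (∀ a ∈ P, a ^ p = 1) ∧
    ∀ v : V, (∀ a ∈ P, a • v = v) → v = 0

end CfsgLib.ClassBound
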