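import Cfsg.Agent.S0547
import Cfsg.Agent.Lib.FgsC.BaseTwo.Sets

/-!
# A primitive soluble permutation group of degree `t` has order at most `3 ^ (t - 1)`
-/

set_option autoImplicit false

universe u v

namespace CfsgLib.ClassBound

open MulAction

/-- Orbit bounds along a chain of subgroups doubling in size. -/
def psi : ℕ → ℕ → ℕ → ℕ
  | _, 0, _ => 1
  | t, k + 1, u => if t ≤ u then 1 else (t - u) * psi t k (2 * u)

theorem psi_pos : ∀ t k u, 0 < psi t k u
  | _, 0, _ => Nat.one_pos
  | t, k + 1, u => by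
    simp only [psi]
    split_ifs with h
    · exact Nat.one_pos
    · exact Nat.mul_pos (by omega) (psi_pos t k _)

theorem psi_anti : ∀ t k u u', u ≤ u' → psi t k u' ≤ psi t k u
  | _, 0, _, _, _ => le_rfl
  | t, k + 1, u, u', h => by
    simp only [psi]
    split_ifs with h1 h2 h2
    · exact le_rfl
    · exact Nat.mul_pos (by omega) (psi_pos t k _)
    · omega
    · exact Nat.mul_le_mul (by omega) (psi_anti t k _ _ (by omega))

theorem psi_le_pow : ∀ t k u, 1 ≤ t → psi t k u ≤ t ^ k
  | _, 0, _, _ => by simp [psi]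
  | t, k + 1, u, ht => by
    simp only [psi]
    split_ifs with h
    · exact Nat.one_le_pow _ _ ht
    · rw [pow_succ']
      exact Nat.mul_le_mul (Nat.sub_le _ _) (psi_le_pow t k _ ht)

theorem degree_bound (t : ℕ) (ht : 2 ≤ t) : ∃ k, t ≤ 2 ^ k ∧ t * psi t k 1 ≤ 3 ^ (t - 1) := by
  by_cases hs : t ≤ 32
  · have h : ∀ t ≤ 32, 2 ≤ t → t * psi t 5 1 ≤ 3 ^ (t - 1) := by decide +kernel
    exact ⟨5, by omega, h t hs ht⟩
  set c := Nat.clog 2 t with hc
  have htc : t ≤ 2 ^ c := Nat.le_pow_clog (by norm_num) t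
  have hlow : 2 ^ (c - 1) < t := Nat.pow_pred_clog_lt_self (by norm_num) (by omega)
  have hc6 : 6 ≤ c := by
    have : Nat.clog 2 33 ≤ Nat.clog 2 t := Nat.clog_mono_right 2 (by omega)
    have h33 : Nat.clog 2 33 = 6 := by decide +kernel
    omega
  refine ⟨c, htc, ?_⟩
  have hb : ∀ c, 6 ≤ c → 2 * (c * (c + 1)) ≤ 3 * 2 ^ (c - 1) := by
    intro c hc
    induction c, hc using Nat.le_induction with
    | base => norm_num
    | succ c hc ih =>
      have h1 : 2 ^ (c + 1 - 1) = 2 * 2 ^ (c - 1) := by rw [← pow_succ']; congr 1; omega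
      rw [h1]
      nlinarith
  have h2 : (2 ^ (c * (c + 1))) ^ 2 ≤ (3 ^ (t - 1)) ^ 2 := by
    calc (2 ^ (c * (c + 1))) ^ 2 = 2 ^ (2 * (c * (c + 1))) := by rw [← pow_mul]; congr 1; ring
      _ ≤ 2 ^ (3 * (t - 1)) := Nat.pow_le_pow_right (by norm_num) ((hb c hc6).trans (by omega))
      _ = 8 ^ (t - 1) := by rw [pow_mul]; norm_num
      _ ≤ 9 ^ (t - 1) := Nat.pow_le_pow_left (by norm_num) _
      _ = (3 ^ (t - 1)) ^ 2 := by rw [← pow_mul, mul_comm, pow_mul]; norm_num
  calc t * psi t c 1 ≤ t * t ^ c := Nat.mul_le_mul_left _ (psi_le_pow t c 1 (by omega))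
    _ = t ^ (c + 1) := (pow_succ' t c).symm
    _ ≤ (2 ^ c) ^ (c + 1) := Nat.pow_le_pow_left htc _
    _ = 2 ^ (c * (c + 1)) := (pow_mul 2 c (c + 1)).symm
    _ ≤ 3 ^ (t - 1) := (Nat.pow_le_pow_iff_left two_ne_zero).1 h2

/-- A primitive soluble group of degree `t` has order at most `3 ^ (t - 1)`. -/
theorem card_le_of_primitive {T : Type u} [Group T] [Finite T] (hs : Group.IsSolvable T) {Ω : Type v}
    [Finite Ω] [Nontrivial Ω] [MulAction T Ω] [FaithfulSMul T Ω] (hprim : IsPreprimitive T Ω) :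
    Nat.card T ≤ 3 ^ (Nat.card Ω - 1) := by
  classical
  haveI := hs
  haveI := hprim.toIsPretransitive
  haveI : Nontrivial T := by
    by_contra h
    rw [not_nontrivial_iff_subsingleton] at h
    obtain ⟨a, b, hab⟩ := exists_pair_ne Ω
    obtain ⟨g, hg⟩ := exists_smul_eq T a b
    exact hab (by rw [← hg, Subsingleton.elim g 1, one_smul])
  obtain ⟨M, hMn, hM1, hMab, hMmin⟩ := CfsgLib.BaseTwo.exists_min_abelian hs
  haveI := hMn
  obtain ⟨htr, hst, -⟩ := Cfsg.Agent.S0547.result hprim M hM1 hMmin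
  haveI := htr
  obtain ⟨ω⟩ := (inferInstance : Nonempty Ω)
  have hMcard : Nat.card M = Nat.card Ω := by
    rw [← index_stabilizer_of_transitive M ω, hst ω, Subgroup.index_bot]
  set t := Nat.card Ω with ht
  have ht2 : 2 ≤ t := Finite.one_lt_card
  set H := stabilizer T ω with hH
  have key : ∀ k, ∀ U : Subgroup T, U ≤ M → t ≤ Nat.card U * 2 ^ k →
      Nat.card ↥(H ⊓ Subgroup.centralizer (U : Set T)) ≤ psi t k (Nat.card U) := by
    have hfull : ∀ U : Subgroup T, U ≤ M → t ≤ Nat.card U →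
        Nat.card ↥(H ⊓ Subgroup.centralizer (U : Set T)) = 1 := by
      intro U hU hcard
      obtain rfl : U = M := Subgroup.eq_of_le_of_card_ge hU (hMcard.trans_le hcard)
      rw [Subgroup.card_eq_one, Subgroup.eq_bot_iff_forall]
      intro h hh
      obtain ⟨hh1, hh2⟩ := Subgroup.mem_inf.1 hh
      refine FaithfulSMul.eq_of_smul_eq_smul (α := Ω) fun x => ?_
      obtain ⟨m, rfl⟩ := exists_smul_eq U ω x
      rw [one_smul]
      show h • ((m : T) • ω) = (m : T) • ω
      rw [← mul_smul, ← Subgroup.mem_centralizer_iff.1 hh2 m m.2, mul_smul, mem_stabilizer_iff.1 hh1]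
    intro k
    induction k with
    | zero =>
      intro U hU hcard
      rw [hfull U hU (by simpa using hcard)]
      exact psi_pos _ _ _
    | succ k ih =>
      intro U hU hcard
      simp only [psi]
      by_cases hle : t ≤ Nat.card U
      · rw [if_pos hle, hfull U hU hle]
      rw [if_neg hle]
      obtain ⟨m, hmM, hmU⟩ : ∃ m ∈ M, m ∉ U := SetLike.exists_of_lt (lt_of_le_of_ne hU fun h => hle (by
        rw [h, hMcard]))
      set K := H ⊓ Subgroup.centralizer (U : Set T) with hK
      set U' := U ⊔ Subgroup.zpowers m with hU'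
      have hU'M : U' ≤ M := sup_le hU (Subgroup.zpowers_le.2 hmM)
      have h2 : 2 * Nat.card U ≤ Nat.card U' := by
        obtain ⟨j, hj⟩ := Subgroup.card_dvd_of_le (le_sup_left : U ≤ U')
        have hne : Nat.card U' ≠ Nat.card U := fun h => hmU
          ((Subgroup.eq_of_le_of_card_ge (le_sup_left : U ≤ U') h.le).symm ▸
            Subgroup.mem_sup_right (Subgroup.mem_zpowers m))
        have : 2 ≤ j := by
          rcases j with _ | _ | j
          · exact absurd hj (by simpa using (Nat.card_pos (α := U')).ne')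
          · exact absurd (hj.trans (mul_one _)) hne
          · omega
        rw [hj, mul_comm]
        exact Nat.mul_le_mul_left _ this
      have hcard' : t ≤ Nat.card U' * 2 ^ k := by
        calc t ≤ Nat.card U * 2 ^ (k + 1) := hcard
          _ = (2 * Nat.card U) * 2 ^ k := by ring
          _ ≤ _ := Nat.mul_le_mul_right _ h2
      have hIH := (ih U' hU'M hcard').trans (psi_anti t k _ _ h2)
      -- the conjugates of `m` avoid `U`
      let S := {x : T // x ∈ M ∧ x ∉ U}
      have hScard : Nat.card S ≤ t - Nat.card U := by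
        have e : ({x : T | x ∈ M ∧ x ∉ U}) = (M : Set T) \ (U : Set T) := rfl
        show Nat.card ({x : T | x ∈ M ∧ x ∉ U}) ≤ _
        rw [Nat.card_coe_set_eq, e, Set.ncard_sdiff (SetLike.coe_subset_coe.2 hU) (Set.toFinite _),
          ← Nat.card_coe_set_eq, ← Nat.card_coe_set_eq]
        show Nat.card M - Nat.card U ≤ _
        rw [hMcard]
      let φ : K → S := fun g => ⟨(g : T) * m * (g : T)⁻¹, hMn.conj_mem m hmM g, fun hin => hmU (by
        have := Subgroup.mem_centralizer_iff.1 (Subgroup.mem_inf.1 g.2).2 _ hin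
        have e : m = (g : T)⁻¹ * ((g : T) * m * (g : T)⁻¹) * g := by group
        rw [e, mul_assoc, this, inv_mul_cancel_left]
        exact hin)⟩
      have hfib : ∀ g g' : K, φ g = φ g' → ((g : T))⁻¹ * g' ∈ H ⊓ Subgroup.centralizer (U' : Set T) := by
        intro g g' h
        have hgg : (g⁻¹ * g' : K).1 ∈ K := (g⁻¹ * g' : K).2
        obtain ⟨h1, h2'⟩ := Subgroup.mem_inf.1 hgg
        refine Subgroup.mem_inf.2 ⟨h1, ?_⟩
        suffices U' ≤ Subgroup.centralizer ({(g : T)⁻¹ * g'} : Set T) from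
          Subgroup.mem_centralizer_iff.2 fun y hy =>
            (Subgroup.mem_centralizer_iff.1 (this hy) _ rfl).symm
        refine sup_le (fun y hy => Subgroup.mem_centralizer_singleton_iff.2
          (Subgroup.mem_centralizer_iff.1 h2' y hy)) (Subgroup.zpowers_le.2
            (Subgroup.mem_centralizer_singleton_iff.2 ?_))
        have hv : (g : T) * m * (g : T)⁻¹ = (g' : T) * m * (g' : T)⁻¹ := congrArg Subtype.val h
        calc m * ((g : T)⁻¹ * g') = (g : T)⁻¹ * ((g : T) * m * (g : T)⁻¹) * g' := by group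
          _ = (g : T)⁻¹ * ((g' : T) * m * (g' : T)⁻¹) * g' := by rw [hv]
          _ = (g : T)⁻¹ * g' * m := by group
      choose sec hsec using fun s : Set.range φ => s.2
      let Φ : K → Set.range φ × ↥(H ⊓ Subgroup.centralizer (U' : Set T)) := fun g =>
        (⟨φ g, g, rfl⟩, ⟨((sec ⟨φ g, g, rfl⟩ : K) : T)⁻¹ * g, hfib _ _ (hsec ⟨φ g, g, rfl⟩)⟩)
      have hΦ : Function.Injective Φ := fun g g' h => by
        obtain ⟨h1, h2'⟩ := Prod.ext_iff.1 h
        have h3 := congrArg Subtype.val h2'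
        simp only [Φ] at h1 h3
        rw [h1] at h3
        exact Subtype.ext (mul_left_cancel h3)
      refine (Nat.card_le_card_of_injective Φ hΦ).trans ?_
      rw [Nat.card_prod]
      exact Nat.mul_le_mul ((Nat.card_le_card_of_injective Subtype.val Subtype.val_injective).trans hScard) hIH
  obtain ⟨k, hk1, hk2⟩ := degree_bound t ht2
  have h := key k ⊥ bot_le (by rw [Subgroup.card_bot, one_mul]; exact hk1)
  rw [Subgroup.card_bot, show H ⊓ Subgroup.centralizer ((⊥ : Subgroup T) : Set T) = H from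
    inf_eq_left.2 fun x _ => Subgroup.mem_centralizer_iff.2 fun y hy => by
      rw [Subgroup.coe_bot, Set.mem_singleton_iff] at hy; simp [hy]] at h
  calc Nat.card T = t * Nat.card H := by
        rw [ht, ← index_stabilizer_of_transitive T ω, Subgroup.index_mul_card]
    _ ≤ t * psi t k 1 := Nat.mul_le_mul_left _ h
    _ ≤ _ := hk2

end CfsgLib.ClassBound
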