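import Cfsg.Agent.Lib.FgsC.ClassBound.Defs

/-!
# The data of a primitive component: the field of a maximal abelian normal subgroup
-/

set_option autoImplicit false

universe u

namespace CfsgLib.ClassBound

open MulAction CfsgLib.BaseTwo
open scoped commutatorElement

variable {X : Type u} [Group X] [Finite X]

/-- The centraliser of `A` modulo `N` acts faithfully on `N / A`, which has short bases. -/
theorem chain_le (S : Sect X) {R : Type u} [CommRing R] [IsDomain R] (χ : S.A →* R)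
    (hχ : Function.Injective χ) (k : ℕ) (hk : S.A.relIndex S.N ≤ 2 ^ k) :
    S.N.relIndex S.C ≤ phi k (S.A.relIndex S.N) := by
  haveI := S.hN
  haveI := S.hA
  -- elements of `C` fixing `U` modulo `A`
  let H : Subgroup X → Subgroup X := fun U =>
    { carrier := {g | g ∈ S.C ∧ ∀ x ∈ U, ⁅g, x⁆ ∈ S.A}
      one_mem' := ⟨S.C.one_mem, fun x _ => by rw [commutatorElement_one_left]; exact S.A.one_mem⟩
      mul_mem' := fun {a b} ha hb => ⟨S.C.mul_mem ha.1 hb.1, fun x hx => by
        rw [show ⁅a * b, x⁆ = (a * ⁅b, x⁆ * a⁻¹) * ⁅a, x⁆ by simp only [commutatorElement_def]; group]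
        exact S.A.mul_mem (S.hA.conj_mem _ (hb.2 x hx) a) (ha.2 x hx)⟩
      inv_mem' := fun {a} ha => ⟨S.C.inv_mem ha.1, fun x hx => by
        rw [show ⁅a⁻¹, x⁆ = a⁻¹ * ⁅a, x⁆⁻¹ * a⁻¹⁻¹ by simp only [commutatorElement_def]; group]
        exact S.hA.conj_mem _ (S.A.inv_mem (ha.2 x hx)) a⁻¹⟩ }
  have hN : ∀ U, U ≤ S.N → S.N ≤ H U := fun U hU g hg => ⟨S.hNC hg, fun x hx => S.hNN g hg x (hU hx)⟩
  have hHN : H S.N ≤ S.N := fun g hg => by
    rw [← S.C_inf_K χ hχ]
    exact Subgroup.mem_inf.2 ⟨hg.1, hg.2⟩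
  have key : ∀ k, ∀ U : Subgroup X, S.A ≤ U → U ≤ S.N → U.relIndex S.N ≤ 2 ^ k →
      S.N.relIndex (H U) ≤ phi k (U.relIndex S.N) := by
    intro k
    induction k with
    | zero =>
      intro U hAU hUN hU
      have hU' : S.N ≤ U := Subgroup.relIndex_eq_one.1
        (le_antisymm (by simpa using hU) (Sect.relIndex_pos _ _))
      rw [show U = S.N from le_antisymm hUN hU', Subgroup.relIndex_eq_one.2 hHN]
      exact le_rfl
    | succ k ih =>
      intro U hAU hUN hU
      simp only [phi]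
      by_cases h1 : U.relIndex S.N ≤ 1
      · rw [if_pos h1]
        have hU' : S.N ≤ U := Subgroup.relIndex_eq_one.1 (le_antisymm h1 (Sect.relIndex_pos _ _))
        rw [show U = S.N from le_antisymm hUN hU', Subgroup.relIndex_eq_one.2 hHN]
      rw [if_neg h1]
      obtain ⟨x, hxN, hxU⟩ : ∃ x ∈ S.N, x ∉ U := by
        by_contra hall
        push Not at hall
        exact h1 (Subgroup.relIndex_eq_one.2 hall).le
      set U' := U ⊔ Subgroup.zpowers x with hU'
      have hU'N : U' ≤ S.N := sup_le hUN (Subgroup.zpowers_le.2 hxN)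
      have hmul := Subgroup.relIndex_mul_relIndex U U' S.N le_sup_left hU'N
      have h2 : 2 ≤ U.relIndex U' := by
        have := Sect.relIndex_pos U U'
        by_contra hlt
        exact hxU (Subgroup.relIndex_eq_one.1 (show U.relIndex U' = 1 by omega)
          (Subgroup.mem_sup_right (Subgroup.mem_zpowers x)))
      have hhalf : U'.relIndex S.N ≤ U.relIndex S.N / 2 := by
        rw [Nat.le_div_iff_mul_le two_pos, ← hmul, mul_comm]
        exact Nat.mul_le_mul_right _ h2
      have hIH := (ih U' (hAU.trans le_sup_left) hU'N (by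
        rw [pow_succ] at hU
        omega)).trans (phi_mono _ _ _ hhalf)
      -- the commutators with `x`
      set W := S.N ⊓ Subgroup.centralizer (U : Set X) with hW
      have hAW : S.A ≤ W := le_inf S.hAN (Subgroup.le_centralizer_iff.1 (hUN.trans S.hNC))
      have hWle : S.A.relIndex W ≤ U.relIndex S.N := by
        rw [S.relIndex_eq χ hχ W hAW inf_le_left]
        have hUW : U ≤ S.N ⊓ Subgroup.centralizer (W : Set X) :=
          le_inf hUN (Subgroup.le_centralizer_iff.1 inf_le_right)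
        rw [← Subgroup.relIndex_mul_relIndex U _ S.N hUW inf_le_left]
        exact Nat.le_mul_of_pos_left _ (Sect.relIndex_pos _ _)
      have hHU' : ∀ g ∈ H U, ⁅g, x⁆ ∈ S.A → g ∈ H U' := by
        intro g hg hgx
        refine ⟨hg.1, fun y hy => ?_⟩
        let M : Subgroup X :=
          { carrier := {y | y ∈ S.N ∧ ⁅g, y⁆ ∈ S.A}
            one_mem' := ⟨S.N.one_mem, by rw [commutatorElement_one_right]; exact S.A.one_mem⟩
            mul_mem' := fun {a b} ha hb => ⟨S.N.mul_mem ha.1 hb.1, by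
              rw [show ⁅g, a * b⁆ = ⁅g, a⁆ * (a * ⁅g, b⁆ * a⁻¹) by simp only [commutatorElement_def]; group]
              exact S.A.mul_mem ha.2 (S.hA.conj_mem _ hb.2 a)⟩
            inv_mem' := fun {a} ha => ⟨S.N.inv_mem ha.1, by
              rw [show ⁅g, a⁻¹⁆ = a⁻¹ * ⁅g, a⁆⁻¹ * a⁻¹⁻¹ by simp only [commutatorElement_def]; group]
              exact S.hA.conj_mem _ (S.A.inv_mem ha.2) a⁻¹⟩ }
        have hle : U' ≤ M := sup_le (fun z hz => ⟨hUN hz, hg.2 z hz⟩) (Subgroup.zpowers_le.2 ⟨hxN, hgx⟩)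
        exact (hle hy).2
      have hmem : ∀ g : H U, ⁅(g : X), x⁆ ∈ W := by
        intro g
        have hy : (g : X) * x * (g : X)⁻¹ ∈ S.N := S.hN.conj_mem x hxN g
        refine Subgroup.mem_inf.2 ⟨S.N.mul_mem hy (S.N.inv_mem hxN), Subgroup.mem_centralizer_iff.2 fun z hz => ?_⟩
        have ha : ⁅(g : X), z⁆ ∈ S.A := g.2.2 z hz
        have hxz : ⁅x, z⁆ ∈ S.A := S.hNN x hxN z (hUN hz)
        have e1 : (g : X) * x * (g : X)⁻¹ * (⁅(g : X), z⁆ * z) * ((g : X) * x * (g : X)⁻¹)⁻¹ * (⁅(g : X), z⁆ * z)⁻¹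
            = ⁅x, z⁆ := by
          rw [show (g : X) * x * (g : X)⁻¹ * (⁅(g : X), z⁆ * z) * ((g : X) * x * (g : X)⁻¹)⁻¹ * (⁅(g : X), z⁆ * z)⁻¹
            = (g : X) * ⁅x, z⁆ * (g : X)⁻¹ by simp only [commutatorElement_def]; group,
            ← S.comm_A hxz g.2.1, mul_assoc, mul_inv_cancel, mul_one]
        rw [← mul_assoc ((g : X) * x * (g : X)⁻¹) ⁅(g : X), z⁆ z,
          ← S.comm_A ha (S.hNC hy), mul_inv_rev] at e1
        have e2 : ⁅(g : X), z⁆ * ⁅(g : X) * x * (g : X)⁻¹, z⁆ * ⁅(g : X), z⁆⁻¹ = ⁅x, z⁆ := by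
          rw [← e1]; simp only [commutatorElement_def]; group
        rw [S.comm_A ha (S.A_le_C (S.hNN _ hy z (hUN hz))), mul_assoc, mul_inv_cancel, mul_one] at e2
        rw [commutatorElement_def, commutatorElement_def] at e2
        show z * ⁅(g : X), x⁆ = ⁅(g : X), x⁆ * z
        rw [commutatorElement_def]
        set c := x * z * x⁻¹ * z⁻¹ with hc
        set Y := (g : X) * x * (g : X)⁻¹ with hY
        have hcA : c⁻¹ ∈ S.A := S.A.inv_mem hxz
        have hcY : c⁻¹ * Y = Y * c⁻¹ := S.comm_A hcA (S.hNC hy)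
        have hcx : c⁻¹ * x = x * c⁻¹ := S.comm_A hcA (S.hNC hxN)
        calc z * (Y * x⁻¹) = (Y * z * Y⁻¹ * z⁻¹)⁻¹ * Y * (z * x⁻¹) := by group
          _ = c⁻¹ * Y * (z * x⁻¹) := by rw [e2]
          _ = Y * (x⁻¹ * (c⁻¹ * x)) * (z * x⁻¹) := by rw [hcx, inv_mul_cancel_left, hcY]
          _ = Y * x⁻¹ * z := by rw [hc]; group
      let φ : H U → W ⧸ S.A.subgroupOf W := fun g => QuotientGroup.mk ⟨⁅(g : X), x⁆, hmem g⟩
      let ψ : H U ⧸ (H U').subgroupOf (H U) → W ⧸ S.A.subgroupOf W := fun c => φ c.out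
      have hψ : Function.Injective ψ := by
        intro c d h
        rw [← QuotientGroup.out_eq' c, ← QuotientGroup.out_eq' d, QuotientGroup.eq, Subgroup.mem_subgroupOf]
        refine hHU' _ (c.out⁻¹ * d.out).2 ?_
        have h' := QuotientGroup.eq.1 h
        rw [Subgroup.mem_subgroupOf] at h'
        push_cast at h' ⊢
        rw [show ⁅((c.out : X))⁻¹ * (d.out : X), x⁆ =
          (c.out : X)⁻¹ * (⁅(c.out : X), x⁆ * (⁅(c.out : X), x⁆⁻¹ * ⁅(d.out : X), x⁆) * ⁅(c.out : X), x⁆⁻¹) *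
            (c.out : X)⁻¹⁻¹ by simp only [commutatorElement_def]; group]
        exact S.hA.conj_mem _ (S.hA.conj_mem _ h' _) _
      calc S.N.relIndex (H U) = S.N.relIndex (H U') * (H U').relIndex (H U) :=
            (Subgroup.relIndex_mul_relIndex _ _ _ (hN U' hU'N)
              (show H U' ≤ H U from fun g hg => ⟨hg.1, fun y hy => hg.2 y (Subgroup.mem_sup_left hy)⟩)).symm
        _ ≤ phi k (U.relIndex S.N / 2) * U.relIndex S.N :=
            Nat.mul_le_mul hIH (le_trans (Nat.card_le_card_of_injective ψ hψ) hWle)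
        _ = U.relIndex S.N * phi k (U.relIndex S.N / 2) := mul_comm _ _
  have hA : H S.A = S.C := le_antisymm (fun g hg => hg.1) fun g hg => ⟨hg, fun x hx => by
    rw [commutatorElement_eq_one_iff_mul_comm.2 (S.comm_A hx hg).symm]
    exact S.A.one_mem⟩
  exact hA ▸ key k S.A le_rfl S.hAN hk

variable {V : Type u} [AddCommGroup V] [Finite V] [DistribMulAction X V]

omit [Finite X] in
theorem two_le_orb [Nontrivial V] : 2 ≤ orb X V := by
  obtain ⟨v, hv⟩ := exists_ne (0 : V)
  haveI : Nontrivial (orbitRel.Quotient X V) := ⟨⟨⟦0⟧, ⟦v⟧, fun h => hv (by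
    obtain ⟨g, hg⟩ := Quotient.exact h
    exact (smul_eq_zero_iff_eq g).1 hg)⟩⟩
  exact Finite.one_lt_card

/-- The field case. -/
theorem hasData_field [FaithfulSMul X V] [Nontrivial V] {p : ℕ} (pp : p.Prime) (S : Sect X)
    (hfld : ∀ x ∈ ring (V := V) S, x ≠ 0 → ∃ y ∈ ring S, x * y = 1)
    {z : X} (hz : z ∈ S.A) (hz1 : z ≠ 1) (hzp : z ^ p = 1) : HasData p X V := by
  classical
  haveI : Finite (AddMonoid.End V) :=
    Finite.of_injective (fun f : AddMonoid.End V => (f : V → V)) DFunLike.coe_injective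
  letI : Field (ring (V := V) S) := (isField_ring S hfld).toField
  haveI : Module.Finite (ring (V := V) S) V := Module.Finite.of_finite
  obtain ⟨r, hchar⟩ := CharP.exists (ring (V := V) S)
  haveI := hchar
  haveI : Fact r.Prime := ⟨CharP.char_is_prime (ring (V := V) S) r⟩
  letI : Algebra (ZMod r) (ring (V := V) S) := ZMod.algebra (ring (V := V) S) r
  haveI : Module.Finite (ZMod r) (ring (V := V) S) := Module.Finite.of_finite
  set f := Module.finrank (ZMod r) (ring (V := V) S) with hf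
  set m := Module.finrank (ring (V := V) S) V with hm
  have hq : Nat.card (ring (V := V) S) = r ^ f := by
    rw [Module.natCard_eq_pow_finrank (K := ZMod r) (V := ring (V := V) S), Nat.card_zmod]
  let χ : S.A →* (ring (V := V) S) :=
    { toFun := fun a => ⟨rho (a : X), rho_mem S a.2⟩
      map_one' := Subtype.ext (map_one (rho : X →* AddMonoid.End V))
      map_mul' := fun a b => Subtype.ext (map_mul (rho : X →* AddMonoid.End V) (a : X) b) }
  have hχ : Function.Injective χ := fun a b h => Subtype.ext (rho_injective (congrArg Subtype.val h))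
  have hpq : p ∣ Nat.card (ring (V := V) S) - 1 := by
    have ho : orderOf (⟨z, hz⟩ : S.A) = p := by
      haveI : Fact p.Prime := ⟨pp⟩
      exact orderOf_eq_prime (Subtype.ext hzp) fun h => hz1 (congrArg Subtype.val h)
    rw [← Nat.card_units, ← ho, ← orderOf_injective χ.toHomUnits fun a b h => hχ (congrArg Units.val h)]
    exact orderOf_dvd_natCard _
  -- the field automorphisms
  let σ : X → (ring (V := V) S ≃+* ring (V := V) S) := fun g =>
    { toFun := fun x => ⟨cjEnd g x, ring_normalized S g x.2⟩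
      invFun := fun x => ⟨cjEnd g⁻¹ x, ring_normalized S g⁻¹ x.2⟩
      left_inv := fun x => Subtype.ext (by show cjEnd g⁻¹ (cjEnd g _) = _; rw [cjEnd_cjEnd, inv_mul_cancel, cjEnd_one])
      right_inv := fun x => Subtype.ext (by show cjEnd g (cjEnd g⁻¹ _) = _; rw [cjEnd_cjEnd, mul_inv_cancel, cjEnd_one])
      map_mul' := fun x y => Subtype.ext (cjEnd_mul g x.1 y.1)
      map_add' := fun x y => Subtype.ext (map_add (cjHom g) x.1 y.1) }
  let τ : X →* (ring (V := V) S ≃ₐ[ZMod r] ring (V := V) S) :=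
    MonoidHom.mk' (fun g => AlgEquiv.ofRingEquiv (f := σ g) fun x => RingHom.congr_fun (Subsingleton.elim
        ((σ g).toRingHom.comp (algebraMap (ZMod r) (ring (V := V) S))) (algebraMap (ZMod r) (ring (V := V) S))) x)
      fun g h => AlgEquiv.ext fun x => Subtype.ext (cjEnd_cjEnd g h x.1).symm
  have hker : τ.ker ≤ S.C := by
    intro g hg
    refine Subgroup.mem_centralizer_iff.2 fun a ha => ?_
    have h1 : cjEnd g (rho a : AddMonoid.End V) = rho a :=
      congrArg Subtype.val (AlgEquiv.congr_fun hg ⟨rho a, rho_mem S ha⟩)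
    have h2 : g * a * g⁻¹ = a := rho_injective (V := V) (by rw [← cjHom_rho]; exact h1)
    exact (mul_inv_eq_iff_eq_mul.1 h2).symm
  have hCf : S.C.index ≤ f := by
    refine le_trans (Nat.le_of_dvd (Nat.pos_of_ne_zero Subgroup.index_ne_zero_of_finite)
      (Subgroup.index_dvd_of_le hker)) ?_
    rw [Subgroup.index_ker]
    refine le_trans (Nat.card_le_card_of_injective Subtype.val Subtype.val_injective) ?_
    rw [Nat.card_eq_fintype_card]
    exact AlgEquiv.card_le
  have hf1 : 1 ≤ f := Module.finrank_pos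
  have hm1 : 1 ≤ m := Module.finrank_pos
  haveI := S.hA
  refine ⟨S.A, S.C, ⊤, r, f, r ^ f, m, 1, S.hA, inferInstance, inferInstance, S.A_le_C, le_top,
    fun a ha a' ha' => S.comm_A ha (S.A_le_C ha'), fun a ha c hc => S.comm_A ha hc, fun x _ y _ => hker ?_,
    (Fact.out : r.Prime), hf1, rfl, hq ▸ hpq, hm1, le_rfl, ?_, ?_, ?_, ?_, two_le_orb⟩
  · rw [MonoidHom.mem_ker, map_commutatorElement, commutatorElement_eq_one_iff_mul_comm]
    exact IsMulCommutative.is_comm.comm _ _
  · rw [mul_one, ← hq]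
    exact Module.natCard_eq_pow_finrank
  · rw [Subgroup.index_top, Nat.sub_self, pow_zero]
  · rw [Subgroup.relIndex_top_right, pow_one]
    exact hCf
  · rw [pow_one]
    have hd : S.A.relIndex S.N ≤ m ^ 2 := card_sect_le S hfld
    have h2m : S.A.relIndex S.N ≤ 2 ^ (2 * Nat.clog 2 m + 1) := hd.trans (by
      calc m ^ 2 ≤ (2 ^ Nat.clog 2 m) ^ 2 := Nat.pow_le_pow_left (Nat.le_pow_clog (by norm_num) m) 2
        _ = 2 ^ (2 * Nat.clog 2 m) := by rw [← pow_mul, mul_comm]
        _ ≤ _ := Nat.pow_le_pow_right (by norm_num) (Nat.le_succ _))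
    rw [← Subgroup.relIndex_mul_relIndex S.A S.N S.C S.hAN S.hNC]
    exact Nat.mul_le_mul hd ((chain_le S χ hχ _ h2m).trans (phi_mono _ _ _ hd))

end CfsgLib.ClassBound
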