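import Mathlib

/-!
# Subgroups of a normal subgroup given by conditions on the components
-/

set_option autoImplicit false

universe u v w

namespace CfsgLib.ClassBound

open scoped commutatorElement

variable {X : Type u} [Group X] {Y : Type v} [Group Y] {Ω : Type w} (K : Subgroup X) (ψ : Ω → K →* Y)

/-- The elements of `K` whose components lie in `S`. -/
def pull (S : Subgroup Y) : Subgroup X := (⨅ c, S.comap (ψ c)).map K.subtype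

theorem mem_pull {S : Subgroup Y} {x : X} : x ∈ pull K ψ S ↔ ∃ h : x ∈ K, ∀ c, ψ c ⟨x, h⟩ ∈ S := by
  constructor
  · rintro ⟨y, hy, rfl⟩
    exact ⟨y.2, fun c => by simpa using Subgroup.mem_iInf.1 hy c⟩
  · rintro ⟨h, hc⟩
    exact ⟨⟨x, h⟩, Subgroup.mem_iInf.2 hc, rfl⟩

theorem pull_le (S : Subgroup Y) : pull K ψ S ≤ K := fun x hx => ((mem_pull K ψ).1 hx).1

theorem pull_mono {S T : Subgroup Y} (h : S ≤ T) : pull K ψ S ≤ pull K ψ T := fun x hx => by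
  obtain ⟨hK, hc⟩ := (mem_pull K ψ).1 hx
  exact (mem_pull K ψ).2 ⟨hK, fun c => h (hc c)⟩

theorem pull_top : pull K ψ ⊤ = K :=
  le_antisymm (pull_le K ψ ⊤) fun _ hx => (mem_pull K ψ).2 ⟨hx, fun _ => Subgroup.mem_top _⟩

theorem pull_comm (hinj : ∀ x y : K, (∀ c, ψ c x = ψ c y) → x = y) {S T : Subgroup Y}
    (h : ∀ a ∈ S, ∀ b ∈ T, a * b = b * a) {x y : X} (hx : x ∈ pull K ψ S) (hy : y ∈ pull K ψ T) :
    x * y = y * x := by
  obtain ⟨hxK, hxc⟩ := (mem_pull K ψ).1 hx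
  obtain ⟨hyK, hyc⟩ := (mem_pull K ψ).1 hy
  exact congrArg Subtype.val (hinj (⟨x, hxK⟩ * ⟨y, hyK⟩) (⟨y, hyK⟩ * ⟨x, hxK⟩) fun c => by
    rw [map_mul, map_mul]; exact h _ (hxc c) _ (hyc c))

theorem pull_commutator {S T : Subgroup Y} (h : ∀ a ∈ S, ∀ b ∈ S, ⁅a, b⁆ ∈ T) {x y : X}
    (hx : x ∈ pull K ψ S) (hy : y ∈ pull K ψ S) : ⁅x, y⁆ ∈ pull K ψ T := by
  obtain ⟨hxK, hxc⟩ := (mem_pull K ψ).1 hx
  obtain ⟨hyK, hyc⟩ := (mem_pull K ψ).1 hy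
  refine (mem_pull K ψ).2 ⟨(⁅(⟨x, hxK⟩ : K), (⟨y, hyK⟩ : K)⁆).2, fun c => ?_⟩
  show ψ c ⁅(⟨x, hxK⟩ : K), (⟨y, hyK⟩ : K)⁆ ∈ T
  rw [map_commutatorElement]
  exact h _ (hxc c) _ (hyc c)

theorem pull_relIndex_le [Finite Ω] [Finite Y] {S T : Subgroup Y} :
    (pull K ψ S).relIndex (pull K ψ T) ≤ S.relIndex T ^ Nat.card Ω := by
  classical
  let P := pull K ψ T
  let comp : P → Ω → T ⧸ S.subgroupOf T := fun x c =>
    QuotientGroup.mk ⟨ψ c ⟨x, pull_le K ψ T x.2⟩, ((mem_pull K ψ).1 x.2).2 c⟩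
  let Φ : P ⧸ (pull K ψ S).subgroupOf P → Ω → T ⧸ S.subgroupOf T := fun q => comp q.out
  have hΦ : Function.Injective Φ := by
    intro q q' h
    rw [← QuotientGroup.out_eq' q, ← QuotientGroup.out_eq' q', QuotientGroup.eq, Subgroup.mem_subgroupOf]
    refine (mem_pull K ψ).2 ⟨pull_le K ψ T (q.out⁻¹ * q'.out).2, fun c => ?_⟩
    have h' := QuotientGroup.eq.1 (congrFun h c)
    rw [Subgroup.mem_subgroupOf] at h'
    have e : (⟨((q.out⁻¹ * q'.out : P) : X), pull_le K ψ T (q.out⁻¹ * q'.out).2⟩ : K) =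
        (⟨(q.out : X), pull_le K ψ T q.out.2⟩ : K)⁻¹ * ⟨(q'.out : X), pull_le K ψ T q'.out.2⟩ :=
      Subtype.ext rfl
    rw [e, map_mul, map_inv]
    exact h'
  have h := Nat.card_le_card_of_injective Φ hΦ
  rwa [Nat.card_fun] at h

theorem pull_normal [K.Normal] {S : Subgroup Y} (hS : S.Normal)
    (hconj : ∀ (y : X) c, ∃ (c' : Ω) (n : Y), ∀ x : K,
      ψ c ⟨y * x * y⁻¹, ‹K.Normal›.conj_mem x x.2 y⟩ = n * ψ c' x * n⁻¹) :
    (pull K ψ S).Normal := ⟨fun x hx y => by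
  obtain ⟨hxK, hxc⟩ := (mem_pull K ψ).1 hx
  refine (mem_pull K ψ).2 ⟨‹K.Normal›.conj_mem x hxK y, fun c => ?_⟩
  obtain ⟨c', n, h⟩ := hconj y c
  exact (h ⟨x, hxK⟩).symm ▸ hS.conj_mem _ (hxc c') n⟩

end CfsgLib.ClassBound
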