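import Cfsg.Agent.Lib.FgsC.ClassBound.Decomp
import Cfsg.Agent.Lib.FgsC.ClassBound.Primitive
import Cfsg.Agent.Lib.FgsC.ClassBound.Pull
import Cfsg.Agent.Lib.FgsC.ClassBound.Components
import Cfsg.Agent.Lib.FgsC.ClassBound.Perm

/-!
# The data of an irreducible soluble linear group, by recursion along systems of imprimitivity
-/

set_option autoImplicit false

universe u

namespace CfsgLib.ClassBound

open MulAction CfsgLib.BaseTwo
open scoped commutatorElement

variable {X : Type u} [Group X] [Finite X] {V : Type u} [AddCommGroup V] [Finite V] [DistribMulAction X V]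

/-- The statement for smaller modules. -/
def DataBelow (p : ℕ) (N : ℕ) : Prop :=
  ∀ (Y : Type u) [Group Y] [Finite Y] (W : Type u) [AddCommGroup W] [Finite W] [DistribMulAction Y W]
    [FaithfulSMul Y W] [Nontrivial W], Nat.card W < N → Group.IsSolvable Y → Irred Y W → HasFpf p Y W →
      HasData p Y W

theorem irred_of_components {Ω : Type u} [Fintype Ω] [MulAction X Ω] {F : Ω → V →+ V} {c₀ : Ω} {g : Ω → X}
    (H : Comp F c₀ g) (hirr : Irred X V) (N : Type u) [Group N] [DistribMulAction N (F c₀).range]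
    (hN : ∀ x : X, x • c₀ = c₀ → ∀ u : (F c₀).range, ∃ n : N, ((n • u : (F c₀).range) : V) = x • (u : V)) :
    Irred N (F c₀).range := by
  intro U hU
  set Ub : AddSubgroup V :=
    AddSubgroup.closure {y | ∃ (x : X) (u : (F c₀).range), u ∈ U ∧ x • (u : V) = y} with hUb
  have hinv : ∀ x : X, ∀ v ∈ Ub, x • v ∈ Ub := by
    intro x v hv
    induction hv using AddSubgroup.closure_induction with
    | mem y hy =>
      obtain ⟨b, u, hu, rfl⟩ := hy
      exact AddSubgroup.subset_closure ⟨x * b, u, hu, mul_smul x b _⟩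
    | zero => rw [smul_zero]; exact zero_mem _
    | add a b _ _ ha hb => rw [smul_add]; exact add_mem ha hb
    | neg a _ ha => rw [smul_neg]; exact neg_mem ha
  have her : ∀ v ∈ Ub, ∃ u ∈ U, (u : V) = F c₀ v := by
    intro v hv
    induction hv using AddSubgroup.closure_induction with
    | mem y hy =>
      obtain ⟨b, u, hu, rfl⟩ := hy
      by_cases hb : b • c₀ = c₀
      · obtain ⟨n, hn⟩ := hN b hb u
        exact ⟨n • u, hU n u hu, by rw [← hn]; exact (H.mem_eq (n • u).2).symm⟩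
      · refine ⟨0, zero_mem U, ?_⟩
        have h5 := H.equiv b c₀ (u : V)
        rw [H.mem_eq u.2] at h5
        rw [h5, H.orth c₀ (b • c₀) (Ne.symm hb)]
        rfl
    | zero => exact ⟨0, zero_mem _, by simp⟩
    | add a b _ _ ha hb =>
      obtain ⟨u, hu, hu'⟩ := ha
      obtain ⟨w, hw, hw'⟩ := hb
      exact ⟨u + w, add_mem hu hw, by simp [hu', hw']⟩
    | neg a _ ha =>
      obtain ⟨u, hu, hu'⟩ := ha
      exact ⟨-u, neg_mem hu, by simp [hu']⟩
  rcases hirr Ub hinv with h | h
  · left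
    rw [AddSubgroup.eq_bot_iff_forall]
    intro u hu
    have h1 : (u : V) ∈ Ub := AddSubgroup.subset_closure ⟨1, u, hu, one_smul X _⟩
    rw [h, AddSubgroup.mem_bot] at h1
    exact Subtype.ext h1
  · right
    rw [AddSubgroup.eq_top_iff']
    intro u
    obtain ⟨w, hw, hwe⟩ := her u (h ▸ AddSubgroup.mem_top _)
    rw [H.mem_eq u.2] at hwe
    rwa [← Subtype.ext hwe]

/-- The induction step at a primitive action on components. -/
theorem hasData_components [FaithfulSMul X V] {p : ℕ} (hs : Group.IsSolvable X) (hirr : Irred X V)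
    (hbelow : DataBelow.{u} p (Nat.card V)) (P : Subgroup X) [P.Normal]
    (hPc : ∀ a ∈ P, ∀ a' ∈ P, a * a' = a' * a) (hPe : ∀ a ∈ P, a ^ p = 1)
    (hPf : ∀ v : V, (∀ a ∈ P, a • v = v) → v = 0)
    {Ω : Type u} [Fintype Ω] [Nontrivial Ω] [MulAction X Ω] (hprim : IsPreprimitive X Ω)
    (F : Ω → V →+ V) (c₀ : Ω) (g : Ω → X) (H : Comp F c₀ g) (hne : ∀ c, ∃ v, F c v ≠ 0)
    (hPfix : ∀ a ∈ P, ∀ c : Ω, a • c = c) : HasData p X V := by
  classical
  haveI := hs
  let N := stabilizer X c₀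
  letI : DistribMulAction N (F c₀).range :=
    { smul := fun n u => ⟨(n : X) • (u : V), H.stab_smul (mem_stabilizer_iff.1 n.2) u.2⟩
      one_smul := fun u => Subtype.ext (one_smul X (u : V))
      mul_smul := fun n k u => Subtype.ext (mul_smul (n : X) (k : X) (u : V))
      smul_zero := fun n => Subtype.ext (smul_zero (n : X))
      smul_add := fun n u w => Subtype.ext (smul_add (n : X) (u : V) (w : V)) }
  let φ : N →* (AddMonoid.End (F c₀).range)ˣ := (rho : N →* AddMonoid.End (F c₀).range).toHomUnits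
  haveI : Finite (AddMonoid.End (F c₀).range) := Finite.of_injective
    (fun f : AddMonoid.End (F c₀).range => (f : (F c₀).range → (F c₀).range)) DFunLike.coe_injective
  haveI : FaithfulSMul φ.range (F c₀).range := ⟨fun {a b} h => Subtype.ext (Units.ext (DFunLike.ext _ _ h))⟩
  have hlift : ∀ x : X, x • c₀ = c₀ → ∀ u : (F c₀).range,
      ∃ n : φ.range, ((n • u : (F c₀).range) : V) = x • (u : V) :=
    fun x hx u => ⟨⟨φ ⟨x, mem_stabilizer_iff.2 hx⟩, ⟨x, mem_stabilizer_iff.2 hx⟩, rfl⟩, rfl⟩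
  haveI : Nontrivial (F c₀).range := by
    obtain ⟨v, hv⟩ := hne c₀
    exact ⟨⟨⟨F c₀ v, v, rfl⟩, 0, fun h => hv (congrArg Subtype.val h)⟩⟩
  have hsol : Group.IsSolvable φ.range := solvable_of_surjective φ.rangeRestrict_surjective
  have hPN : P ≤ N := fun a ha => mem_stabilizer_iff.2 (hPfix a ha c₀)
  have hfpf : HasFpf p φ.range (F c₀).range := by
    refine ⟨(P.subgroupOf N).map φ.rangeRestrict,
      (inferInstance : (P.subgroupOf N).Normal).map _ φ.rangeRestrict_surjective, ?_, ?_, ?_⟩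
    · rintro _ ⟨a, ha, rfl⟩ _ ⟨b, hb, rfl⟩
      rw [← map_mul, ← map_mul]
      exact congrArg _ (Subtype.ext (hPc _ (Subgroup.mem_subgroupOf.1 ha) _ (Subgroup.mem_subgroupOf.1 hb)))
    · rintro _ ⟨a, ha, rfl⟩
      rw [← map_pow, show a ^ p = 1 from Subtype.ext (hPe _ (Subgroup.mem_subgroupOf.1 ha)), map_one]
    · intro u hu
      refine Subtype.ext (hPf u fun a ha => ?_)
      exact congrArg Subtype.val
        (hu (φ.rangeRestrict ⟨a, hPN ha⟩) ⟨⟨a, hPN ha⟩, Subgroup.mem_subgroupOf.2 ha, rfl⟩)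
  obtain ⟨A, C, B, r, f, q, m, t, hA, hC, hB, hAC, hCB, hAab, hAcC, hBB, hr, hf, hq, hpq, hm, ht, hcard, hiB, hiC,
    hiA, horb⟩ := hbelow φ.range (F c₀).range (H.card_lt hne) hsol (irred_of_components H hirr φ.range hlift) hfpf
  -- the kernel on the components
  let π := toPermHom X Ω
  have hK : ∀ x ∈ π.ker, ∀ c : Ω, x • c = c := fun x hx c => by
    exact congrArg (fun σ : Equiv.Perm Ω => σ c) hx
  have hmem : ∀ (x : π.ker) (c : Ω), (g c)⁻¹ * x * g c ∈ N := fun x c => by
    rw [mem_stabilizer_iff, mul_smul, mul_smul, H.rep, hK x x.2, inv_smul_eq_iff, H.rep]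
  let ψ : Ω → π.ker →* φ.range := fun c => MonoidHom.mk' (fun x => φ.rangeRestrict ⟨_, hmem x c⟩) fun x y => by
    rw [← map_mul]
    congr 1
    exact Subtype.ext (by simp only [Subgroup.coe_mul]; group)
  have hinj : ∀ x y : π.ker, (∀ c, ψ c x = ψ c y) → x = y := by
    intro x y h
    refine Subtype.ext (FaithfulSMul.eq_of_smul_eq_smul (α := V) fun v => ?_)
    rw [H.sum v, Finset.smul_sum, Finset.smul_sum]
    refine Finset.sum_congr rfl fun c _ => ?_
    have h1 : ((g c)⁻¹ * x * g c) • ((g c)⁻¹ • F c v) = ((g c)⁻¹ * y * g c) • ((g c)⁻¹ • F c v) :=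
      congrArg (fun n : φ.range => ((n • (⟨_, H.back_mem c v⟩ : (F c₀).range) : (F c₀).range) : V)) (h c)
    simp only [mul_smul, smul_inv_smul] at h1
    exact (smul_left_cancel_iff _).1 h1
  have hconj : ∀ (y : X) (c : Ω), ∃ (c' : Ω) (n : φ.range), ∀ x : π.ker,
      ψ c ⟨y * x * y⁻¹, (inferInstance : π.ker.Normal).conj_mem x x.2 y⟩ = n * ψ c' x * n⁻¹ := by
    intro y c
    have hn : (g c)⁻¹ * y * g (y⁻¹ • c) ∈ N := by
      rw [mem_stabilizer_iff, mul_smul, mul_smul, H.rep, smul_inv_smul, inv_smul_eq_iff, H.rep]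
    refine ⟨y⁻¹ • c, φ.rangeRestrict ⟨_, hn⟩, fun x => ?_⟩
    show φ.rangeRestrict ⟨_, _⟩ = φ.rangeRestrict ⟨_, hn⟩ * φ.rangeRestrict ⟨_, hmem x _⟩ * (φ.rangeRestrict ⟨_, hn⟩)⁻¹
    rw [← map_inv, ← map_mul, ← map_mul]
    congr 1
    exact Subtype.ext (by simp only [Subgroup.coe_mul, Subgroup.coe_inv]; group)
  haveI := hA
  haveI := hC
  haveI := hB
  have ht0 : 2 ≤ Nat.card Ω := Finite.one_lt_card
  have hKi : π.ker.index ≤ 3 ^ (Nat.card Ω - 1) := by
    rw [Subgroup.index_ker]
    haveI : IsPreprimitive π.range Ω := by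
      haveI := hprim
      exact IsPreprimitive.of_surjective
        (f := ({ toFun := id, map_smul' := fun _ _ => rfl } : Ω →ₑ[π.rangeRestrict] Ω)) Function.surjective_id
    exact card_le_of_primitive (solvable_of_surjective π.rangeRestrict_surjective) (Ω := Ω) inferInstance
  refine ⟨pull π.ker ψ A, pull π.ker ψ C, pull π.ker ψ B, r, f, q, m, Nat.card Ω * t, pull_normal _ ψ hA hconj,
    pull_normal _ ψ hC hconj, pull_normal _ ψ hB hconj, pull_mono _ ψ hAC, pull_mono _ ψ hCB,
    fun a ha a' ha' => pull_comm _ ψ hinj hAab ha ha', fun a ha c hc => pull_comm _ ψ hinj hAcC ha hc,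
    fun x hx y hy => pull_commutator _ ψ hBB hx hy, hr, hf, hq, hpq, hm, Nat.mul_pos (by omega) ht, ?_, ?_, ?_, ?_,
    ?_⟩
  · rw [H.card_eq, hcard, ← pow_mul]
    congr 1
    ring
  · rw [← Subgroup.relIndex_mul_index (pull_le π.ker ψ B)]
    have h1 := pull_relIndex_le π.ker ψ (S := B) (T := ⊤)
    rw [pull_top, Subgroup.relIndex_top_right] at h1
    calc (pull π.ker ψ B).relIndex π.ker * π.ker.index
        ≤ B.index ^ Nat.card Ω * 3 ^ (Nat.card Ω - 1) := Nat.mul_le_mul h1 hKi
      _ ≤ (3 ^ (t - 1)) ^ Nat.card Ω * 3 ^ (Nat.card Ω - 1) :=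
          Nat.mul_le_mul_right _ (Nat.pow_le_pow_left hiB _)
      _ = 3 ^ (Nat.card Ω * t - 1) := by
          rw [← pow_mul, ← pow_add]
          congr 1
          obtain ⟨j, rfl⟩ : ∃ j, t = j + 1 := ⟨t - 1, by omega⟩
          rw [Nat.add_sub_cancel, mul_add, mul_comm (Nat.card Ω) j, mul_one]
          omega
  · calc _ ≤ C.relIndex B ^ Nat.card Ω := pull_relIndex_le π.ker ψ
      _ ≤ (f ^ t) ^ Nat.card Ω := Nat.pow_le_pow_left hiC _
      _ = _ := by rw [← pow_mul, mul_comm]
  · calc _ ≤ A.relIndex C ^ Nat.card Ω := pull_relIndex_le π.ker ψ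
      _ ≤ (b m ^ t) ^ Nat.card Ω := Nat.pow_le_pow_left hiA _
      _ = _ := by rw [← pow_mul, mul_comm]
  · refine le_trans ?_ (H.orb_ge φ.range hlift)
    exact Nat.add_le_add_right (Nat.mul_le_mul_left _ (Nat.le_sub_one_of_lt horb)) 1

/-- The induction step. -/
theorem hasData_step [FaithfulSMul X V] [Nontrivial V] {p : ℕ} (pp : p.Prime) (hs : Group.IsSolvable X)
    (hirr : Irred X V) (hfpf : HasFpf p X V) (hbelow : DataBelow.{u} p (Nat.card V)) : HasData p X V := by
  classical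
  obtain ⟨P, hPn, hPc, hPe, hPf⟩ := hfpf
  haveI := hPn
  obtain ⟨S, hPS⟩ := exists_sect_ge hs P hPc
  obtain ⟨z, hzP, hz1⟩ : ∃ z ∈ P, z ≠ 1 := by
    by_contra hall
    push Not at hall
    obtain ⟨v, hv⟩ := exists_ne (0 : V)
    exact hv (hPf v fun a ha => by rw [hall a ha, one_smul])
  rcases field_or_decomp hirr (ring (V := V) S) (fun x hx y hy => ring_comm S hx hy)
      (fun a x hx => ring_normalized S a hx) with hfld |
    ⟨E, instF, instN, instA, e, he, heR, hconj, hid, horth, hsum, hne⟩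
  · exact hasData_field pp S hfld (hPS hzP) hz1 (hPe z hzP)
  have hPE : ∀ a ∈ P, ∀ i : E, a • i = i := fun a ha i => he (by
    rw [hconj]
    show cjHom a (e i) = e i
    rw [cjHom_eq, ring_comm S (rho_mem S (hPS ha)) (heR i), mul_assoc, ← map_mul, mul_inv_cancel, map_one, mul_one])
  have hequiv : ∀ (x : X) i v, x • e i v = e (x • i) (x • v) := fun x i v => by
    rw [hconj, cjEnd_apply, inv_smul_smul]
  obtain ⟨i₀⟩ := (inferInstance : Nonempty E)
  -- transitivity
  have htr : ∀ j : E, ∃ x : X, x • i₀ = j := by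
    let U : AddSubgroup V :=
      { carrier := {v | ∀ j, (¬ ∃ x : X, x • i₀ = j) → e j v = 0}
        zero_mem' := fun j _ => map_zero (e j)
        add_mem' := fun {a b} ha hb j hj => by rw [map_add, ha j hj, hb j hj, add_zero]
        neg_mem' := fun {a} ha j hj => by rw [map_neg, ha j hj, neg_zero] }
    have hUinv : ∀ x : X, ∀ v ∈ U, x • v ∈ U := fun x v hv j hj => by
      have h := hequiv x (x⁻¹ • j) v
      rw [smul_inv_smul, hv (x⁻¹ • j) fun ⟨y, hy⟩ => hj ⟨x * y, by rw [mul_smul, hy, smul_inv_smul]⟩,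
        smul_zero] at h
      exact h.symm
    obtain ⟨v, hv⟩ := hne i₀
    rcases hirr U hUinv with h | h
    · have hmem : e i₀ v ∈ U := fun j hj => horth j i₀ (fun h => hj ⟨1, by rw [one_smul, h]⟩) v
      rw [h, AddSubgroup.mem_bot] at hmem
      exact absurd hmem hv
    · intro j
      by_contra hj
      obtain ⟨w, hw⟩ := hne j
      exact hw ((h ▸ AddSubgroup.mem_top w : w ∈ U) j hj)
  choose x hx using htr
  obtain ⟨M, hM, hMle⟩ := (eq_top_or_exists_le_coatom (stabilizer X i₀)).resolve_left (fun h => by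
    obtain ⟨j, hj⟩ := exists_ne i₀
    refine hj ?_
    rw [← hx j, mem_stabilizer_iff.1 (show x j ∈ stabilizer X i₀ by rw [h]; trivial)])
  haveI : Nontrivial (X ⧸ M) := by
    by_contra h
    rw [not_nontrivial_iff_subsingleton] at h
    exact hM.1 (Subgroup.index_eq_one.1 ((Subgroup.index_eq_card M).trans Nat.card_unique))
  letI := Fintype.ofFinite (X ⧸ M)
  have hprim : IsPreprimitive X (X ⧸ M) := by
    rw [← isCoatom_stabilizer_iff_preprimitive X ((1 : X) : X ⧸ M), stabilizer_quotient]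
    exact hM
  let π : E → X ⧸ M := fun i => (x i : X ⧸ M)
  have hπ : ∀ (a : X) i, π (a • i) = a • π i := fun a i => by
    refine QuotientGroup.eq.2 (hMle (mem_stabilizer_iff.2 ?_))
    show ((x (a • i))⁻¹ * (a * x i)) • i₀ = i₀
    rw [mul_smul, mul_smul, hx, inv_smul_eq_iff, hx]
  let F : X ⧸ M → V →+ V := fun c => ∑ i ∈ Finset.univ.filter (fun i => π i = c), e i
  have hF : ∀ c v, F c v = ∑ i ∈ Finset.univ.filter (fun i => π i = c), e i v :=
    fun c v => AddMonoidHom.finsetSum_apply _ _ _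
  have heF : ∀ i c v, e i (F c v) = if π i = c then e i v else 0 := fun i c v => by
    rw [hF, map_sum]
    split_ifs with h
    · rw [Finset.sum_eq_single i (fun j _ hj => horth i j hj.symm v) (fun h' => absurd (by simp [h]) h'), hid]
    · exact Finset.sum_eq_zero fun j hj => horth i j (fun e' => h (e' ▸ (Finset.mem_filter.1 hj).2)) v
  let g : X ⧸ M → X := fun c => c.out
  have hcomp : Comp F ((1 : X) : X ⧸ M) g := by
    refine ⟨fun c v => ?_, fun c d hcd v => ?_, fun v => ?_, fun a c v => ?_, fun c => ?_⟩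
    · rw [hF c (F c v)]
      refine (Finset.sum_congr rfl fun i hi => ?_).trans (hF c v).symm
      rw [heF, if_pos (Finset.mem_filter.1 hi).2]
    · rw [hF]
      exact Finset.sum_eq_zero fun i hi => by
        rw [heF, if_neg fun h => hcd ((Finset.mem_filter.1 hi).2.symm.trans h)]
    · conv_lhs => rw [hsum v, ← Finset.sum_fiberwise Finset.univ π]
      exact Finset.sum_congr rfl fun c _ => (hF c v).symm
    · rw [hF, hF, Finset.smul_sum]
      refine Finset.sum_bij (fun i _ => a • i) (fun i hi => ?_) (fun i _ j _ h => smul_left_cancel a h)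
        (fun j hj => ⟨a⁻¹ • j, ?_, smul_inv_smul a j⟩) fun i _ => hequiv a i v
      · exact Finset.mem_filter.2 ⟨Finset.mem_univ _, by rw [hπ, (Finset.mem_filter.1 hi).2]⟩
      · exact Finset.mem_filter.2 ⟨Finset.mem_univ _, by rw [hπ, (Finset.mem_filter.1 hj).2, inv_smul_smul]⟩
    · show ((c.out * 1 : X) : X ⧸ M) = c
      rw [mul_one]
      exact QuotientGroup.out_eq' c
  have hsurj : Function.Surjective π := fun c => ⟨c.out • i₀, by
    refine (QuotientGroup.eq.2 (hMle (mem_stabilizer_iff.2 ?_))).trans (QuotientGroup.out_eq' c)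
    rw [mul_smul, inv_smul_eq_iff, hx]⟩
  refine hasData_components hs hirr hbelow P hPc hPe hPf hprim F _ g hcomp (fun c => ?_) fun a ha c => ?_
  · obtain ⟨i, rfl⟩ := hsurj c
    obtain ⟨v, hv⟩ := hne i
    refine ⟨v, fun h => hv ?_⟩
    have := heF i (π i) v
    rwa [if_pos rfl, h, map_zero, eq_comm] at this
  · obtain ⟨i, rfl⟩ := hsurj c
    rw [← hπ, hPE a ha i]

/-- Every irreducible soluble linear group with a fixed point free `p`-subgroup has data. -/
theorem hasData {p : ℕ} (pp : p.Prime) : ∀ N, DataBelow.{u} p N := by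
  intro N
  induction N with
  | zero => intro Y _ _ W _ _ _ _ _ h; exact absurd h (Nat.not_lt_zero _)
  | succ N ih =>
    intro Y _ _ W _ _ _ _ _ h hs hirr hfpf
    exact hasData_step pp hs hirr hfpf fun Y' _ _ W' _ _ _ _ _ h' => ih Y' W' (by omega)

end CfsgLib.ClassBound
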