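import Cfsg.Agent.Lib.FgsC.ClassBound.Arith

/-!
# Class number bound: the final inequalities
-/

set_option autoImplicit false

namespace CfsgLib.ClassBound

theorem natLog_mul_le {p s : ℕ} (h : p ≤ 3 * Nat.log 2 p * s) : (p : ℝ) ≤ 3 * Real.logb 2 p * s := by
  have h1 : (p : ℝ) ≤ 3 * (Nat.log 2 p : ℝ) * s := by exact_mod_cast h
  refine h1.trans (mul_le_mul_of_nonneg_right (mul_le_mul_of_nonneg_left ?_ (by norm_num)) (Nat.cast_nonneg s))
  exact_mod_cast Real.natLog_le_logb p 2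

/-- Mersenne primes in three components. -/
theorem mersenne_three {p f s : ℕ} (h53 : 53 ≤ p) (hf6 : 6 ≤ f) (hp : p + 1 = 2 ^ f)
    (hs : p - 1 + 12 * f ≤ 3 * f * s) :
    (p : ℝ) ≤ 3 * Real.logb 2 p * s := by
  have hpR : (53 : ℝ) ≤ p := by exact_mod_cast h53
  have hL1 : 1 ≤ Real.logb 2 p := by
    rw [Real.le_logb_iff_rpow_le (by norm_num) (by linarith), Real.rpow_one]
    linarith
  rcases le_or_gt p s with h | h
  · have hsR : (p : ℝ) ≤ s := by exact_mod_cast h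
    nlinarith
  have hsR : (s : ℝ) ≤ p := by exact_mod_cast h.le
  have hL : (f : ℝ) - 2 / p ≤ Real.logb 2 p := by
    have hpf : ((p : ℝ) + 1) = 2 ^ f := by exact_mod_cast hp
    have e : Real.logb 2 ((p : ℝ) / (p + 1)) = Real.logb 2 p - f := by
      rw [Real.logb_div (by linarith) (by linarith), hpf, Real.logb_pow]
      simp
    have h1 : -(1 / (p : ℝ)) ≤ Real.log ((p : ℝ) / (p + 1)) := by
      refine le_trans ?_ (Real.one_sub_inv_le_log_of_pos (by positivity))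
      rw [inv_div]
      field_simp
      linarith
    have h2 : (1 / 2 : ℝ) < Real.log 2 := by linarith [Real.log_two_gt_d9]
    have h3 : -(2 / (p : ℝ)) ≤ Real.logb 2 ((p : ℝ) / (p + 1)) := by
      rw [Real.logb, le_div_iff₀ (by linarith)]
      refine le_trans ?_ h1
      have h4 : (0 : ℝ) ≤ 2 / p := by positivity
      have e2 : (1 : ℝ) / p = 2 / p * (1 / 2) := by field_simp
      nlinarith
    linarith
  have hN : (p : ℝ) - 1 + 12 * f ≤ 3 * f * s := by
    have h' : ((p - 1 + 12 * f : ℕ) : ℝ) ≤ ((3 * f * s : ℕ) : ℝ) := by exact_mod_cast hs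
    push_cast [Nat.cast_sub (show 1 ≤ p by omega)] at h'
    linarith
  have hps : (2 / (p : ℝ)) * s ≤ 2 := by
    rw [div_mul_eq_mul_div, div_le_iff₀ (by linarith)]
    linarith
  have hf : (6 : ℝ) ≤ f := by exact_mod_cast hf6
  nlinarith [mul_le_mul_of_nonneg_right hL (Nat.cast_nonneg s : (0 : ℝ) ≤ s)]

theorem numeric {p r f q m t k o : ℕ} (F : Field' p r f q) (hm : 1 ≤ m) (ht : 1 ≤ t) (hto : t ≤ o) (hk0 : 1 ≤ k)
    (hk : p - 1 ≤ (k - 1) * (f * (m * t)))
    (hX : q ^ (m * t) ≤ o * (k ^ 2 * (27 ^ (t - 1) * (f * b m) ^ t)) + 1) :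
    (p : ℝ) ≤ 3 * Real.logb 2 p * ((k + o : ℕ) : ℝ) := by
  have h5 := F.log_ge
  have h53 := F.p53
  have hq := F.q_gt
  set n := f * (m * t) with hn
  have hn1 : 1 ≤ n := Nat.mul_pos F.fpos (Nat.mul_pos hm ht)
  have hns : p ≤ n * (k + o) := by
    obtain ⟨j, rfl⟩ : ∃ j, k = j + 1 := ⟨k - 1, by omega⟩
    rw [Nat.add_sub_cancel, mul_comm] at hk
    rw [mul_add, mul_add, mul_one]
    omega
  rcases le_or_gt (2 ^ n) (p ^ 3) with h | h
  · have h1 : (n : ℝ) ≤ 3 * Real.logb 2 p := by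
      have e : Real.logb 2 ((p : ℝ) ^ 3) = 3 * Real.logb 2 p := by rw [Real.logb_pow]; norm_num
      rw [← e, Real.le_logb_iff_rpow_le (by norm_num) (by positivity), Real.rpow_natCast]
      exact_mod_cast h
    have h2 : (p : ℝ) ≤ n * ((k + o : ℕ) : ℝ) := by exact_mod_cast hns
    exact h2.trans (mul_le_mul_of_nonneg_right h1 (Nat.cast_nonneg _))
  have hgood : Good p f q m t ∨ (p : ℝ) ≤ 3 * Real.logb 2 p * ((k + o : ℕ) : ℝ) := by
    rcases Nat.lt_or_ge m 3 with hm3 | hm3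
    swap
    · exact Or.inl (good_of_three_le F hm3 ht)
    rcases (show m = 1 ∨ m = 2 by omega) with rfl | rfl
    swap
    · exact Or.inl (good_two F ht (by rwa [show t * (2 * f) = n by rw [hn]; ring]))
    by_cases hM : q = p + 1 → 3 ≤ t → 4 ≤ t ∧ 12 ≤ f
    · exact Or.inl (good_one F ht (by rwa [show t * f = n by rw [hn]; ring]) hM)
    right
    push Not at hM
    obtain ⟨hq1, ht3, hM⟩ := hM
    have hr : r = 2 := by
      by_contra hr
      have hqo : Odd q := F.hq ▸ (F.rp.odd_of_ne_two hr).pow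
      have hpo : Odd p := F.pp.odd_of_ne_two (by omega)
      rw [hq1] at hqo
      exact Nat.not_even_iff_odd.2 hqo hpo.add_one
    have hpf : p + 1 = 2 ^ f := by rw [← hr, ← F.hq, hq1]
    have hf6 : 6 ≤ f := by
      by_contra hlt
      have : 2 ^ f ≤ 2 ^ 5 := Nat.pow_le_pow_right (by norm_num) (by omega)
      omega
    obtain ⟨j, rfl⟩ : ∃ j, k = j + 1 := ⟨k - 1, by omega⟩
    rw [Nat.add_sub_cancel, hn] at hk
    rcases (show t = 3 ∨ 4 ≤ t by omega) with rfl | ht4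
    · refine mersenne_three h53 hf6 hpf ?_
      rw [show 3 * f * (j + 1 + o) = j * (f * (1 * 3)) + 3 * f + 3 * f * o by ring]
      have : 3 * f * 3 ≤ 3 * f * o := Nat.mul_le_mul_left _ hto
      omega
    have hf12 := hM ht4
    have hp127 : f = 7 := by
      by_contra h7
      have hpp := F.pp
      rcases (show f = 6 ∨ f = 8 ∨ f = 9 ∨ f = 10 ∨ f = 11 by omega) with rfl | rfl | rfl | rfl | rfl <;>
        · norm_num at hpf
          obtain rfl := Nat.eq_sub_of_add_eq hpf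
          norm_num at hpp
    subst hp127
    obtain rfl : p = 127 := by norm_num at hpf; omega
    refine natLog_mul_le ?_
    have hl : Nat.log 2 127 = 6 := by decide +kernel
    rw [hl]
    rcases Nat.lt_or_ge (j + t) 9 with hjt | hjt
    · exfalso
      have h1 : j * t ≤ j * (8 - j) := Nat.mul_le_mul_left _ (by omega)
      have h2 : j ≤ 8 := by omega
      have h3 : ∀ j ≤ 8, j * (8 - j) ≤ 16 := by decide
      have h4 := h3 j h2
      have h5 : j * (7 * (1 * t)) = 7 * (j * t) := by ring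
      omega
    · omega
  rcases hgood with hgood | hdone
  swap
  · exact hdone
  refine natLog_mul_le ?_
  set l := Nat.log 2 p
  set D := 27 ^ (t - 1) * (f * b m) ^ t with hD
  have hD0 : 0 < D := Nat.mul_pos (by positivity) (Nat.pow_pos (Nat.mul_pos F.fpos (b_pos hm)))
  have hV : 53 ≤ q ^ (m * t) := le_trans (by omega) (Nat.le_self_pow (Nat.mul_pos hm ht).ne' q)
  have h1 : p ^ 3 * D ≤ 175 * l ^ 3 * q ^ (m * t) := by
    unfold Good at hgood
    rwa [hD, mul_comm (27 ^ (t - 1))]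
  have h2 : 52 * q ^ (m * t) ≤ 53 * (o * (k ^ 2 * D)) := by omega
  have h3 : 52 * p ^ 3 ≤ 53 * 175 * l ^ 3 * (o * k ^ 2) := by
    refine Nat.le_of_mul_le_mul_right ?_ hD0
    calc 52 * p ^ 3 * D = 52 * (p ^ 3 * D) := by ring
      _ ≤ 52 * (175 * l ^ 3 * q ^ (m * t)) := Nat.mul_le_mul_left _ h1
      _ = 175 * l ^ 3 * (52 * q ^ (m * t)) := by ring
      _ ≤ 175 * l ^ 3 * (53 * (o * (k ^ 2 * D))) := Nat.mul_le_mul_left _ h2
      _ = _ := by ring
  have h4 : 27 * (o * k ^ 2) ≤ 4 * (k + o) ^ 3 := by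
    zify
    nlinarith [mul_nonneg (sq_nonneg ((k : ℤ) - 2 * o)) (show (0 : ℤ) ≤ 4 * k + o by positivity)]
  refine (Nat.pow_le_pow_iff_left (show 3 ≠ 0 by norm_num)).1 (Nat.le_of_mul_le_mul_left ?_ (show 0 < 52 by norm_num))
  calc 52 * p ^ 3 ≤ 53 * 175 * l ^ 3 * (o * k ^ 2) := h3
    _ ≤ 351 * l ^ 3 * (27 * (o * k ^ 2)) := by nlinarith [Nat.zero_le (l ^ 3 * (o * k ^ 2))]
    _ ≤ 351 * l ^ 3 * (4 * (k + o) ^ 3) := Nat.mul_le_mul_left _ h4
    _ = 52 * (3 * l * (k + o)) ^ 3 := by ring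

end CfsgLib.ClassBound
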