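import Cfsg.Agent.Lib.FgsC.ClassBound.Imprimitive
import Cfsg.Agent.Lib.FgsC.ClassBound.Classes
import Cfsg.Agent.Lib.FgsC.ClassBound.Numeric
import Cfsg.Agent.Lib.Base.Fitting

/-!
# `k(G) ≥ p / (3 log p)` when `p` divides `|G : F(G)|`
-/

set_option autoImplicit false

universe u

namespace CfsgLib.ClassBound

open MulAction CfsgLib.BaseTwo CfsgLib.Base
open scoped commutatorElement

/-- The bound for an irreducible linear group. -/
theorem linear_bound {X : Type u} [Group X] [Finite X] {V : Type u} [AddCommGroup V] [Finite V]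
    [DistribMulAction X V] [FaithfulSMul X V] [Nontrivial V] {p : ℕ} (pp : p.Prime) (h53 : 53 ≤ p)
    (hs : Group.IsSolvable X) (hirr : Irred X V) (hfpf : HasFpf p X V) :
    (p : ℝ) ≤ 3 * Real.logb 2 p * ((Nat.card (ConjClasses X) + (orb X V - 1) : ℕ) : ℝ) := by
  classical
  obtain ⟨A, C, B, r, f, q, m, t, hA, hC, hB, hAC, hCB, -, hAcC, hBB, hr, hf, hq, hpq, hm, ht, hcard, hiB, hiC, hiA,
    horb⟩ := hasData pp _ X V (Nat.lt_succ_self _) hs hirr hfpf
  haveI : Fact r.Prime := ⟨hr⟩
  have hF : Field' p r f q := ⟨pp, h53, hr, hf, hq, hpq⟩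
  have hn : 1 ≤ f * (m * t) := Nat.mul_pos hf (Nat.mul_pos hm ht)
  have hcard' : Nat.card V = r ^ (f * (m * t)) := by rw [hcard, hq, ← pow_mul]
  -- `V` is elementary abelian
  let W : AddSubgroup V :=
    { carrier := {v | r • v = 0}
      zero_mem' := smul_zero r
      add_mem' := fun {a b} ha hb => by show r • (a + b) = 0; rw [smul_add, ha, hb, add_zero]
      neg_mem' := fun {a} ha => by show r • -a = 0; rw [smul_neg, ha, neg_zero] }
  have hexp : ∀ v : V, r • v = 0 := by
    rcases hirr W (fun x v hv => by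
      show r • x • v = 0
      rw [← smul_comm x r v, show r • v = 0 from hv, smul_zero]) with h | h
    · obtain ⟨v, hv⟩ := exists_prime_addOrderOf_dvd_card' (G := V) r (by
        rw [hcard']; exact dvd_pow_self r (by omega))
      exfalso
      have hmem : v ∈ W := by show r • v = 0; rw [← hv]; exact addOrderOf_nsmul_eq_zero v
      rw [h, AddSubgroup.mem_bot] at hmem
      rw [hmem, addOrderOf_zero] at hv
      exact hr.one_lt.ne hv
    · exact fun v => (h.symm ▸ AddSubgroup.mem_top v : v ∈ W)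
  letI : Module (ZMod r) V := AddCommGroup.zmodModule hexp
  haveI : Module.Finite (ZMod r) V := Module.Finite.of_finite
  have hdim : Module.finrank (ZMod r) V = f * (m * t) := by
    have h := (FiniteField.pow_finrank_eq_natCard r V).symm
    rw [hcard'] at h
    exact (Nat.pow_right_injective hr.two_le h).symm
  have hrp : r ≠ p := by
    intro e
    have h1 : r ∣ q := hq ▸ dvd_pow_self r (by omega)
    have hq1 : 1 ≤ q := hq ▸ Nat.one_le_pow _ _ hr.pos
    have h2 : r ∣ 1 := (Nat.dvd_add_right (e.symm ▸ hpq : r ∣ q - 1)).1 (by rwa [Nat.sub_add_cancel hq1])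
    exact hr.not_dvd_one h2
  obtain ⟨P, -, -, hPe, hPf⟩ := hfpf
  obtain ⟨y, hy, hy1⟩ : ∃ y ∈ P, y ≠ 1 := by
    by_contra hall
    push Not at hall
    obtain ⟨v, hv⟩ := exists_ne (0 : V)
    exact hv (hPf v fun a ha => by rw [hall a ha, one_smul])
  have hk := sub_one_le_classes (V := V) pp hrp (hPe y hy) hy1
  rw [hdim] at hk
  set k := Nat.card (ConjClasses X)
  have hk0 : 1 ≤ k := Nat.card_pos
  -- the order of `X`
  have hCi : C.index = C.relIndex B * B.index := (Subgroup.relIndex_mul_index hCB).symm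
  have hAi : A.index = A.relIndex C * C.index := (Subgroup.relIndex_mul_index hAC).symm
  haveI := hA
  haveI := hB
  haveI := hC
  have hcA : Nat.card A ≤ k * C.index := card_le_classes hAcC
  have hcB : C.relIndex B ≤ k * B.index := relIndex_le_classes hCB hBB
  have hX : Nat.card X ≤ k ^ 2 * (27 ^ (t - 1) * (f * b m) ^ t) := by
    calc Nat.card X = Nat.card A * A.index := (Subgroup.card_mul_index A).symm
      _ ≤ k * C.index * (A.relIndex C * C.index) := hAi ▸ Nat.mul_le_mul_right _ hcA
      _ = k * B.index ^ 2 * (C.relIndex B * A.relIndex C) * C.relIndex B := by rw [hCi]; ring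
      _ ≤ k * B.index ^ 2 * (C.relIndex B * A.relIndex C) * (k * B.index) := Nat.mul_le_mul_left _ hcB
      _ = k ^ 2 * (B.index ^ 3 * (C.relIndex B * A.relIndex C)) := by ring
      _ ≤ k ^ 2 * ((3 ^ (t - 1)) ^ 3 * (f ^ t * b m ^ t)) := by gcongr
      _ = _ := by rw [← pow_mul, mul_comm (t - 1), pow_mul, ← mul_pow]; norm_num
  refine numeric hF hm ht (by omega) hk0 hk ?_
  rw [← hcard]
  exact card_le_orb.trans (Nat.add_le_add_right (Nat.mul_le_mul_left _ hX) 1)

variable {G : Type u} [Group G] [Finite G]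

theorem classes_quot_le (N : Subgroup G) [N.Normal] :
    Nat.card (ConjClasses (G ⧸ N)) ≤ Nat.card (ConjClasses G) :=
  Nat.card_le_card_of_surjective _ (ConjClasses.map_surjective (QuotientGroup.mk'_surjective N))

theorem dvd_index_centralizer {p : ℕ} (pp : p.Prime) (hp : p ∣ (Cfsg.fittingSubgroup G).index) (V : Subgroup G)
    [V.Normal] (hVc : ∀ x ∈ V, ∀ y ∈ V, x * y = y * x) :
    p ∣ (Cfsg.fittingSubgroup (G ⧸ V)).index ∨ p ∣ (Subgroup.centralizer (V : Set G)).index := by
  by_contra hnot
  push Not at hnot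
  set K := (Cfsg.fittingSubgroup (G ⧸ V)).comap (QuotientGroup.mk' V) with hK
  haveI := fittingSubgroup_normal' (G ⧸ V)
  haveI : K.Normal := Subgroup.Normal.comap inferInstance _
  set D := K ⊓ Subgroup.centralizer (V : Set G) with hD
  have hVD : V ≤ D := le_inf (fun x hx => by
    show QuotientGroup.mk' V x ∈ Cfsg.fittingSubgroup (G ⧸ V)
    have h1 : QuotientGroup.mk' V x = 1 := (QuotientGroup.eq_one_iff x).2 hx
    rw [h1]; exact one_mem _) fun x hx =>
      Subgroup.mem_centralizer_iff.2 fun y hy => hVc y hy x hx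
  have hnil : Group.IsNilpotent D := by
    let π := (QuotientGroup.mk' V).comp D.subtype
    have hker : π.ker ≤ Subgroup.center D := fun x hx => by
      refine Subgroup.mem_center_iff.2 fun y => Subtype.ext ?_
      exact (Subgroup.mem_centralizer_iff.1 y.2.2 x ((QuotientGroup.eq_one_iff _).1 hx)).symm
    haveI : Group.IsNilpotent π.range := isNilpotent_of_le (by rintro _ ⟨x, rfl⟩; exact x.2.1)
      (isNilpotent_fittingSubgroup (G ⧸ V))
    exact isNilpotent_of_ker_le_center π.rangeRestrict (by rwa [MonoidHom.ker_rangeRestrict])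
  have hle := Subgroup.index_dvd_of_le (le_fittingSubgroup hnil)
  have h1 : p ∣ D.index := hp.trans hle
  rw [← Subgroup.relIndex_mul_index (show D ≤ K from inf_le_left)] at h1
  rcases pp.dvd_mul.1 h1 with h | h
  · refine hnot.2 (h.trans ?_)
    rw [hD, Subgroup.inf_relIndex_left]
    exact Subgroup.relIndex_dvd_index_of_normal _ _
  · refine hnot.1 ?_
    rwa [hK, Subgroup.index_comap_of_surjective _ (QuotientGroup.mk'_surjective V)] at h

/-- A fixed-point free abelian normal subgroup of exponent `p`. -/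
theorem hasFpf_of_dvd {X : Type u} [Group X] [Finite X] {V : Type u} [AddCommGroup V] [DistribMulAction X V]
    [FaithfulSMul X V] (hirr : Irred X V) {p : ℕ} (pp : p.Prime)
    (hp : p ∣ Nat.card (Cfsg.fittingSubgroup X)) : HasFpf p X V := by
  haveI : Fact p.Prime := ⟨pp⟩
  haveI := isNilpotent_fittingSubgroup X
  haveI := fittingSubgroup_normal' X
  let Q : Sylow p (Cfsg.fittingSubgroup X) := Classical.arbitrary _
  have hcore : Cfsg.pCore p X ≠ ⊥ := by
    rw [← map_pCore_fittingSubgroup p X]
    intro h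
    rw [Subgroup.map_eq_bot_iff_of_injective _ (Subgroup.subtype_injective _)] at h
    exact Q.ne_bot_of_dvd_card hp (le_bot_iff.1 (h ▸ le_pCore Q.isPGroup'))
  haveI : (Cfsg.pCore p X).Normal := Subgroup.sSup_normal _ fun N hN => hN.1
  haveI : Nontrivial (Cfsg.pCore p X) := (Subgroup.nontrivial_iff_ne_bot _).2 hcore
  haveI := (isPGroup_pCore p X).center_nontrivial
  set Z := (Subgroup.center (Cfsg.pCore p X)).map (Cfsg.pCore p X).subtype with hZ
  haveI : Z.Normal := inferInstance
  have hZc : ∀ a ∈ Z, ∀ b ∈ Z, a * b = b * a := by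
    rintro _ ⟨a, ha, rfl⟩ _ ⟨b, -, rfl⟩
    rw [← map_mul, ← map_mul, (Subgroup.mem_center_iff.1 ha b).symm]
  let P : Subgroup X :=
    { carrier := {x | x ∈ Z ∧ x ^ p = 1}
      one_mem' := ⟨Z.one_mem, one_pow p⟩
      mul_mem' := fun {a b} ha hb => ⟨Z.mul_mem ha.1 hb.1, by
        rw [(show Commute a b from hZc a ha.1 b hb.1).mul_pow, ha.2, hb.2, one_mul]⟩
      inv_mem' := fun {a} ha => ⟨Z.inv_mem ha.1, by rw [inv_pow, ha.2, inv_one]⟩ }
  have hPn : P.Normal := ⟨fun x hx g => ⟨(inferInstance : Z.Normal).conj_mem x hx.1 g, by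
    rw [conj_pow, hx.2, mul_one, mul_inv_cancel]⟩⟩
  obtain ⟨z, hz⟩ : ∃ z : Subgroup.center (Cfsg.pCore p X), orderOf z = p := by
    refine exists_prime_orderOf_dvd_card' p ?_
    obtain ⟨n, hn, hn'⟩ := ((isPGroup_pCore p X).to_subgroup (Subgroup.center _)).nontrivial_iff_card.1 inferInstance
    rw [hn']
    exact dvd_pow_self p hn.ne'
  have hzP : ((z : Cfsg.pCore p X) : X) ∈ P := ⟨⟨z, z.2, rfl⟩, by
    have e := pow_orderOf_eq_one z
    rw [hz] at e
    rw [← Subgroup.coe_pow, ← Subgroup.coe_pow, e]; rfl⟩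
  refine ⟨P, hPn, fun a ha b hb => hZc a ha.1 b hb.1, fun a ha => ha.2, fun v hv => ?_⟩
  let U : AddSubgroup V :=
    { carrier := {v | ∀ a ∈ P, a • v = v}
      zero_mem' := fun a _ => smul_zero a
      add_mem' := fun {u w} hu hw a ha => by rw [smul_add, hu a ha, hw a ha]
      neg_mem' := fun {u} hu a ha => by rw [smul_neg, hu a ha] }
  rcases hirr U (fun x w hw a ha => by
      have h := hw _ (hPn.conj_mem a ha x⁻¹)
      rw [inv_inv, mul_smul, mul_smul, inv_smul_eq_iff] at h
      exact h) with h | h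
  · exact (AddSubgroup.mem_bot.1 (h ▸ (hv : v ∈ U)))
  · exfalso
    have h1 : ((z : Cfsg.pCore p X) : X) = 1 := FaithfulSMul.eq_of_smul_eq_smul fun w : V => by
      rw [one_smul]
      exact (h.symm ▸ AddSubgroup.mem_top w : w ∈ U) _ hzP
    have h2 : z = 1 := Subtype.ext (Subtype.ext h1)
    rw [h2, orderOf_one] at hz
    exact pp.one_lt.ne hz

theorem classes_orb {V : Subgroup G} (C : Subgroup G) [C.Normal] (hVC : V ≤ C)
    [CommGroup V] [DistribMulAction (G ⧸ C) (Additive V)]
    (hact : ∀ (g : G) (v : V), ((Additive.toMul ((g : G ⧸ C) • Additive.ofMul v) : V) : G) = g * v * g⁻¹) :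
    Nat.card (ConjClasses (G ⧸ C)) + (orb (G ⧸ C) (Additive V) - 1) ≤ Nat.card (ConjClasses G) := by
  classical
  let z : ConjClasses (G ⧸ C) := 1
  have horb : 1 ≤ orb (G ⧸ C) (Additive V) := by
    haveI : Nonempty (orbitRel.Quotient (G ⧸ C) (Additive V)) := ⟨Quotient.mk'' 0⟩
    exact Nat.card_pos
  let cls : {c : ConjClasses (G ⧸ C) // c ≠ z} ⊕ orbitRel.Quotient (G ⧸ C) (Additive V) → ConjClasses G :=
    Sum.elim (fun c => ConjClasses.mk c.1.out.out) fun o => ConjClasses.mk ((Additive.toMul o.out : V) : G)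
  have hlift : ∀ c : ConjClasses (G ⧸ C),
      ConjClasses.map (QuotientGroup.mk' C) (ConjClasses.mk c.out.out) = c := fun c => by
    show ConjClasses.mk ((c.out.out : G) : G ⧸ C) = c
    rw [QuotientGroup.out_eq']
    exact Quotient.out_eq c
  have hVz : ∀ v : V, ConjClasses.map (QuotientGroup.mk' C) (ConjClasses.mk (v : G)) = z := fun v => by
    show ConjClasses.mk ((v : G) : G ⧸ C) = z
    rw [(QuotientGroup.eq_one_iff _).2 (hVC v.2)]
    rfl
  have hinj : Function.Injective cls := by
    rintro (c | o) (c' | o') h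
    · have := congrArg (ConjClasses.map (QuotientGroup.mk' C)) h
      simp only [cls, Sum.elim_inl, hlift] at this
      rw [Subtype.ext this]
    · have := congrArg (ConjClasses.map (QuotientGroup.mk' C)) h
      simp only [cls, Sum.elim_inl, Sum.elim_inr, hlift, hVz] at this
      exact absurd this c.2
    · have := congrArg (ConjClasses.map (QuotientGroup.mk' C)) h
      simp only [cls, Sum.elim_inl, Sum.elim_inr, hlift, hVz] at this
      exact absurd this.symm c'.2
    · obtain ⟨g, hg⟩ := isConj_iff.1 (ConjClasses.mk_eq_mk_iff_isConj.1 h)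
      have hr : (g : G ⧸ C) • o.out = o'.out :=
        Additive.toMul.injective (Subtype.ext ((hact g (Additive.toMul o.out)).trans hg))
      refine congrArg Sum.inr ?_
      rw [← Quotient.out_eq' o, ← Quotient.out_eq' o']
      exact (Quotient.sound' (orbitRel_apply.2 ⟨(g : G ⧸ C), hr⟩)).symm
  have h := Nat.card_le_card_of_injective cls hinj
  rw [Nat.card_sum] at h
  have h1 : Nat.card {c : ConjClasses (G ⧸ C) // c ≠ z} + 1 = Nat.card (ConjClasses (G ⧸ C)) := by
    rw [← Finite.card_option, Nat.card_congr (Equiv.optionSubtypeNe z)]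
  change _ + orb (G ⧸ C) (Additive V) ≤ _ at h
  omega

/-- The bound for `p ≥ 53`. -/
theorem bound_large {p : ℕ} (pp : p.Prime) (h53 : 53 ≤ p) : ∀ (N : ℕ) (G : Type u) [Group G] [Finite G],
    Nat.card G ≤ N → Group.IsSolvable G → p ∣ (Cfsg.fittingSubgroup G).index →
      (p : ℝ) ≤ 3 * Real.logb 2 p * (Nat.card (ConjClasses G) : ℝ) := by
  intro N
  induction N with
  | zero => intro G _ _ h; exact absurd h (Nat.not_le.2 Nat.card_pos)
  | succ N ih =>
    intro G _ _ hG hs hp
    classical
    have hlog : 0 ≤ 3 * Real.logb 2 (p : ℝ) :=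
      mul_nonneg (by norm_num) (Real.logb_nonneg (by norm_num) (by exact_mod_cast pp.one_lt.le))
    have hmono : ∀ M : Subgroup G, ∀ [M.Normal], M ≠ ⊥ → p ∣ (Cfsg.fittingSubgroup (G ⧸ M)).index →
        (p : ℝ) ≤ 3 * Real.logb 2 p * (Nat.card (ConjClasses G) : ℝ) := by
      intro M _ hM hpM
      have hlt : Nat.card (G ⧸ M) ≤ N := by
        have h1 := Subgroup.card_mul_index M
        rw [Subgroup.index_eq_card] at h1
        have h2 : 2 ≤ Nat.card M := M.one_lt_card_iff_ne_bot.2 hM
        have h3 : 2 * Nat.card (G ⧸ M) ≤ Nat.card M * Nat.card (G ⧸ M) := Nat.mul_le_mul_right _ h2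
        have h4 : 0 < Nat.card (G ⧸ M) := Nat.card_pos
        omega
      haveI := hs
      refine (ih (G ⧸ M) hlt inferInstance hpM).trans (mul_le_mul_of_nonneg_left ?_ hlog)
      exact_mod_cast classes_quot_le M
    haveI : Nontrivial G := by
      by_contra h
      rw [not_nontrivial_iff_subsingleton] at h
      have := Subgroup.index_dvd_card (Cfsg.fittingSubgroup G)
      rw [Nat.card_unique, Nat.dvd_one] at this
      rw [this] at hp
      exact pp.not_dvd_one hp
    obtain ⟨V, hVn, hVne, hVc, hVmin⟩ := exists_min_abelian hs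
    haveI := hVn
    rcases dvd_index_centralizer pp hp V hVc with h | hpX
    · exact hmono V hVne h
    set C := Subgroup.centralizer (V : Set G) with hC
    have hVC : V ≤ C := fun x hx => Subgroup.mem_centralizer_iff.2 fun y hy => hVc y hy x hx
    by_cases hpF : p ∣ (Cfsg.fittingSubgroup (G ⧸ C)).index
    · exact hmono C (ne_bot_of_le_ne_bot hVne hVC) hpF
    letI : CommGroup V := { V.toGroup with mul_comm := fun x y => Subtype.ext (hVc x x.2 y y.2) }
    let φ : G →* AddMonoid.End (Additive V) :=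
      { toFun := fun g => MonoidHom.toAdditive (MulAut.conjNormal g : MulAut V).toMonoidHom
        map_one' := by rw [map_one]; rfl
        map_mul' := fun g h => by rw [map_mul]; rfl }
    have hφ : C ≤ φ.ker := fun g hg => MonoidHom.mem_ker.2 (DFunLike.ext _ _ fun v => by
      refine Additive.toMul.injective (Subtype.ext ?_)
      show g * ((Additive.toMul v : V) : G) * g⁻¹ = (Additive.toMul v : V)
      rw [mul_inv_eq_iff_eq_mul]
      exact (Subgroup.mem_centralizer_iff.1 hg _ (Additive.toMul v).2).symm)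
    letI : DistribMulAction (G ⧸ C) (Additive V) := DistribMulAction.compHom _ (QuotientGroup.lift C φ hφ)
    have hact : ∀ (g : G) (v : V), ((Additive.toMul ((g : G ⧸ C) • Additive.ofMul v) : V) : G) = g * v * g⁻¹ :=
      fun g v => rfl
    haveI : FaithfulSMul (G ⧸ C) (Additive V) := ⟨fun {a c} h => by
      obtain ⟨g, rfl⟩ := QuotientGroup.mk_surjective a
      obtain ⟨k, rfl⟩ := QuotientGroup.mk_surjective c
      refine QuotientGroup.eq.2 (Subgroup.mem_centralizer_iff.2 fun v hv => ?_)
      have h1 : g * v * g⁻¹ = k * v * k⁻¹ := by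
        rw [← hact g ⟨v, hv⟩, ← hact k ⟨v, hv⟩, h]
      calc v * (g⁻¹ * k) = g⁻¹ * (g * v * g⁻¹) * k := by group
        _ = g⁻¹ * (k * v * k⁻¹) * k := by rw [h1]
        _ = g⁻¹ * k * v := by group⟩
    haveI : Nontrivial (Additive V) := by
      haveI : Nontrivial V := (Subgroup.nontrivial_iff_ne_bot V).2 hVne
      infer_instance
    have hirr : Irred (G ⧸ C) (Additive V) := by
      intro U hU
      let U' : Subgroup G := (AddSubgroup.toSubgroup' U).map V.subtype
      have hmem : ∀ x : V, (x : G) ∈ U' ↔ Additive.ofMul x ∈ U :=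
        fun x => Subgroup.mem_map_iff_mem V.subtype_injective
      have hU'V : U' ≤ V := by rintro _ ⟨x, -, rfl⟩; exact x.2
      haveI : U'.Normal := ⟨fun x hx g => by
        rw [← Subtype.coe_mk x (hU'V hx), ← hact g ⟨x, hU'V hx⟩, hmem]
        exact hU (g : G ⧸ C) _ ((hmem ⟨x, hU'V hx⟩).1 hx)⟩
      rcases hVmin U' inferInstance hU'V with h | h
      · left
        rw [AddSubgroup.eq_bot_iff_forall]
        intro x hx
        have h1 := (hmem (Additive.toMul x)).2 hx
        rw [h, Subgroup.mem_bot] at h1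
        exact Additive.toMul.injective (Subtype.ext h1)
      · right
        rw [AddSubgroup.eq_top_iff']
        intro x
        exact (hmem (Additive.toMul x)).1 (by rw [h]; exact (Additive.toMul x).2)
    haveI := hs
    have hfpf : HasFpf p (G ⧸ C) (Additive V) := by
      refine hasFpf_of_dvd hirr pp ?_
      rw [Subgroup.index_eq_card] at hpX
      rw [← Subgroup.card_mul_index (Cfsg.fittingSubgroup (G ⧸ C))] at hpX
      exact (pp.dvd_mul.1 hpX).resolve_right hpF
    refine (linear_bound pp h53 inferInstance hirr hfpf).trans (mul_le_mul_of_nonneg_left ?_ hlog)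
    exact_mod_cast classes_orb C hVC hact
/-- For small `p` three classes suffice. -/
theorem classes_ge_three {p : ℕ} [Fact p.Prime] (hp : p ∣ (Cfsg.fittingSubgroup G).index) :
    3 ≤ Nat.card (ConjClasses G) := by
  classical
  have hpG : p ∣ Nat.card G := hp.trans (Subgroup.index_dvd_card _)
  obtain ⟨q, hq, hqG, hqp⟩ : ∃ q, q.Prime ∧ q ∣ Nat.card G ∧ q ≠ p := by
    by_contra hall
    push Not at hall
    obtain ⟨n, hn⟩ : ∃ n, Nat.card G = p ^ n := ⟨_, Nat.eq_prime_pow_of_unique_prime_dvd Nat.card_pos.ne'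
      fun {d} hd hdvd => hall d hd hdvd⟩
    haveI : Group.IsNilpotent G := (IsPGroup.of_card hn).isNilpotent
    rw [fittingSubgroup_eq_top_iff.2 inferInstance, Subgroup.index_top] at hp
    exact (Fact.out : p.Prime).not_dvd_one hp
  haveI : Fact q.Prime := ⟨hq⟩
  obtain ⟨x, hx⟩ := exists_prime_orderOf_dvd_card' (G := G) p hpG
  obtain ⟨y, hy⟩ := exists_prime_orderOf_dvd_card' (G := G) q hqG
  have ho : ∀ a c : G, ConjClasses.mk a = ConjClasses.mk c → orderOf a = orderOf c := fun a c h => by
    obtain ⟨g, rfl⟩ := isConj_iff.1 (ConjClasses.mk_eq_mk_iff_isConj.1 h)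
    exact (MulEquiv.orderOf_eq (MulAut.conj g) a).symm
  let cls : Fin 3 → ConjClasses G := ![ConjClasses.mk 1, ConjClasses.mk x, ConjClasses.mk y]
  have hinj : Function.Injective cls := fun i j h => by
    have hp1 := (Fact.out : p.Prime).one_lt
    have hq1 := hq.one_lt
    fin_cases i <;> fin_cases j <;> (try rfl) <;> exfalso <;>
      (simp [cls] at h; have := ho _ _ h; simp only [orderOf_one, hx, hy] at this; omega)
  simpa using Nat.card_le_card_of_injective cls hinj

theorem small_aux (p : ℕ) (h : p ≤ 47) : p.Prime → 2 ^ p ≤ p ^ 9 := by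
  revert p; decide +kernel

theorem main (hs : Group.IsSolvable G) (p : ℕ) [Fact p.Prime] (hp : p ∣ (Cfsg.fittingSubgroup G).index) :
    (p : ℝ) / (3 * Real.logb 2 p) ≤ Nat.card (ConjClasses G) := by
  have pp : p.Prime := Fact.out
  have hlog : 0 < 3 * Real.logb 2 (p : ℝ) :=
    mul_pos (by norm_num) (Real.logb_pos (by norm_num) (by exact_mod_cast pp.one_lt))
  rw [div_le_iff₀ hlog, mul_comm]
  by_cases h53 : 53 ≤ p
  · exact bound_large pp h53 _ G le_rfl hs hp
  have h47 : p ≤ 47 := by
    by_contra hlt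
    have hh : ∀ j < 53, 48 ≤ j → ¬ j.Prime := by decide +kernel
    exact hh p (by omega) (by omega) pp
  have h1 : (p : ℝ) ≤ 9 * Real.logb 2 p := by
    have h2 : (2 : ℝ) ^ p ≤ (p : ℝ) ^ 9 := by exact_mod_cast small_aux p h47 pp
    have h3 := Real.logb_le_logb_of_le (b := 2) (by norm_num) (by positivity) h2
    rw [Real.logb_pow, Real.logb_pow, Real.logb_self_eq_one (by norm_num), mul_one] at h3
    exact_mod_cast h3
  have h3' : (3 : ℝ) ≤ Nat.card (ConjClasses G) := by exact_mod_cast classes_ge_three hp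
  nlinarith [mul_le_mul_of_nonneg_left h3' hlog.le]

end CfsgLib.ClassBound
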